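import Cfsg.Agent.H810.RC.Core_mg_m3
import Cfsg.Agent.H398.RC.RowUAll_m3
import Cfsg.Agent.H579.RC.CaseTwoFinal_m3
import Cfsg.Agent.H578.RC.One_m3
import Cfsg.Agent.H587.KB8.Geo
import Cfsg.Agent.H67.RC.RowOdd_m3
import Mathlib
import Cfsg.Agent.H233.RC.Red_mg_m3
import Cfsg.Agent.FastGrp
import Cfsg.Agent.Prune
set_option linter.all false
prune_inst 0x7ff3eff9bbbefbffffff7e7da6d8cdfc3b931fffa4dff94bffe069ff4bdf139009c5638d09e030fe0e96401410a87843fbfffeffe26bfc7ffffd5ff41ffbee0fe5f7b10811d48c340f342ff683f0678e7f3fffffffffffffffffffffffffffaeffbfffffffff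
open scoped Cfsg.Agent.FastGrp

-- part: H253/RC/T3Dead
section
/-!
# S3510, triality type iii: `dead_G0` and `dead_G2` (helper253)
-/

set_option autoImplicit false
open Cfsg

namespace Cfsg.Agent.H864.RC

open Module QuadraticMap MulAction
open Cfsg.Agent.LieClassical.OrthCore Cfsg.Agent.LieClassical.OrthTrans
open Cfsg.Agent.LieClassical.OrthSimple Cfsg.Agent.ClassicalGeometry.OrthSemi
open Cfsg.Agent.ClassicalGeometry.OrthAut1 Cfsg.Agent.H106.RC Cfsg.Agent.H93.RC Cfsg.Agent.H566.RC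
open Cfsg.Agent.LieClassical.QuadForms Cfsg.Agent.ClassicalGeometry.TrialityOct
open Cfsg.Agent.ClassicalGeometry.Triality Cfsg.Agent.ClassicalGeometry.TrialitySpaces
open Cfsg.Agent.H198.TriBase Cfsg.Agent.H198.TriAut Cfsg.Agent.H198.TriDia
open Cfsg.Agent.H206.Balance hiding Good

/-- an odd number `> 3`, not divisible by `9`, has a prime divisor `≠ 2, 3` -/
theorem exists_prime_ne {n : ℕ} (h1 : 3 < n) (h2 : ¬ 2 ∣ n) (h9 : ¬ 9 ∣ n) : ∃ l : ℕ, l.Prime ∧ l ≠ 2 ∧ l ≠ 3 ∧ l ∣ n := by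
  by_cases h3 : 3 ∣ n
  · obtain ⟨m, rfl⟩ := h3
    have hm : m ≠ 1 := by omega
    obtain ⟨l, hl, hlm⟩ := Nat.exists_prime_and_dvd hm
    refine ⟨l, hl, ?_, ?_, hlm.mul_left 3⟩
    · rintro rfl; exact h2 (hlm.mul_left 3)
    · rintro rfl; exact h9 (by rw [show 9 = 3 * 3 from rfl]; exact Nat.mul_dvd_mul_left 3 hlm)
  · obtain ⟨l, hl, hlm⟩ := Nat.exists_prime_and_dvd (show n ≠ 1 by omega)
    exact ⟨l, hl, fun h => h2 (h ▸ hlm), fun h => h3 (h ▸ hlm), hlm⟩

/-- `q₀² + 1`, `q₀ ≥ 2` -/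
theorem exists_prime_four {q0 : ℕ} (h : 2 ≤ q0) : ∃ l : ℕ, l.Prime ∧ l ≠ 2 ∧ l ≠ 3 ∧ l ∣ q0 ^ 2 + 1 := by
  have h4 : ¬ 4 ∣ q0 ^ 2 + 1 := by
    intro h4
    have h5 : (q0 ^ 2 + 1) % 4 = 0 := Nat.mod_eq_zero_of_dvd h4
    have h6 : q0 % 4 < 4 := Nat.mod_lt _ (by norm_num)
    have h7 : (q0 ^ 2 + 1) % 4 = ((q0 % 4) ^ 2 + 1) % 4 := by
      rw [Nat.add_mod, Nat.pow_mod, ← Nat.add_mod]
    rw [h7] at h5
    generalize q0 % 4 = a at *
    interval_cases a <;> revert h5 <;> decide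
  have h3 : ¬ 3 ∣ q0 ^ 2 + 1 := by
    intro h4
    have h5 : (q0 ^ 2 + 1) % 3 = 0 := Nat.mod_eq_zero_of_dvd h4
    have h6 : q0 % 3 < 3 := Nat.mod_lt _ (by norm_num)
    have h7 : (q0 ^ 2 + 1) % 3 = ((q0 % 3) ^ 2 + 1) % 3 := by
      rw [Nat.add_mod, Nat.pow_mod, ← Nat.add_mod]
    rw [h7] at h5
    generalize q0 % 3 = a at *
    interval_cases a <;> revert h5 <;> decide
  have h5 : 5 ≤ q0 ^ 2 + 1 := by nlinarith
  by_cases h2 : 2 ∣ q0 ^ 2 + 1
  · obtain ⟨m, hm⟩ := h2
    have hm1 : m ≠ 1 := by omega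
    obtain ⟨l, hl, hlm⟩ := Nat.exists_prime_and_dvd hm1
    have hd : l ∣ q0 ^ 2 + 1 := by rw [hm]; exact hlm.mul_left 2
    refine ⟨l, hl, ?_, fun h => h3 (h ▸ hd), hd⟩
    rintro rfl
    apply h4
    rw [hm, show 4 = 2 * 2 from rfl]
    exact Nat.mul_dvd_mul_left 2 hlm
  · obtain ⟨l, hl, hlm⟩ := Nat.exists_prime_and_dvd (show q0 ^ 2 + 1 ≠ 1 by omega)
    exact ⟨l, hl, fun h => h2 (h ▸ hlm), fun h => h3 (h ▸ hlm), hlm⟩

theorem odd_nine {q : ℕ} : ¬ 2 ∣ q ^ 2 + q + 1 ∧ ¬ 9 ∣ q ^ 2 + q + 1 := by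
  constructor
  · intro h
    have h5 : (q ^ 2 + q + 1) % 2 = 0 := Nat.mod_eq_zero_of_dvd h
    rcases Nat.mod_two_eq_zero_or_one q with h6 | h6 <;>
      simp only [Nat.add_mod, Nat.pow_mod, h6, _root_.ne_eq, _root_.OfNat.ofNat_ne_zero, _root_.not_false_eq_true, _root_.zero_pow, _root_.Nat.zero_mod, _root_.add_zero, _root_.Nat.mod_succ, _root_.zero_add, _root_.one_ne_zero, _root_.one_pow, _root_.Nat.reduceAdd, _root_.Nat.mod_self] at h5
  · intro h
    have h5 : (q ^ 2 + q + 1) % 9 = 0 := Nat.mod_eq_zero_of_dvd h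
    have h6 : q % 9 < 9 := Nat.mod_lt _ (by norm_num)
    have h7 : (q ^ 2 + q + 1) % 9 = ((q % 9) ^ 2 + q % 9 + 1) % 9 := by
      simp only [Nat.add_mod, Nat.pow_mod, _root_.dvd_refl, _root_.Nat.mod_mod_of_dvd, _root_.Nat.one_mod]
    rw [h7] at h5
    generalize q % 9 = a at *
    interval_cases a <;> revert h5 <;> decide

theorem odd_nine' {q : ℕ} (hq : 1 ≤ q) : ¬ 2 ∣ q ^ 2 - q + 1 ∧ ¬ 9 ∣ q ^ 2 - q + 1 := by
  obtain ⟨m, rfl⟩ : ∃ m, q = m + 1 := ⟨q - 1, by omega⟩
  have e : (m + 1) ^ 2 - (m + 1) + 1 = m ^ 2 + m + 1 := by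
    have : (m + 1) ^ 2 = (m ^ 2 + m) + (m + 1) := by ring
    rw [this, Nat.add_sub_cancel]
  rw [e]
  exact odd_nine

variable {F : Type} [Field F]

section env

variable {G Ω ι : Type} [Group G] [MulAction G Ω] {N : Subgroup G} {hG : Good (plusForm 4 F)}
  {κ : P8 F →* G} {s : F ≃+* F} {x₁ : G} {x : ι → G} {r : ι → ℕ} {g : ι → (V8 F ≃ₗ[F] V8 F)}

/-- a one-parameter group in `E Q` commuting with the `g i` (no `r i = p`) has a conjugate in `AutD`; `zu2` : there is none -/
theorem dead_opg [Finite F] [Finite G] [Finite ι] {p : ℕ} [CharP F p] (h : T3 hG N κ s Ω x₁ x r g)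
    (hN : NoN Ω N) (hrp : ∀ i, r i ≠ p)
    (opg : ∃ (X Y : V8 F →ₗ[F] V8 F) (a : F → (V8 F ≃ₗ[F] V8 F)), X ≠ 0 ∧
      (p = 2 → finrank F (LinearMap.range Y) ≤ 1) ∧
      (∀ t v, a t v = v + t • X v + t ^ 2 • Y v) ∧ (∀ t, a t ∈ E (plusForm 4 F)) ∧
      (∀ t u, a (t + u) = a t * a u) ∧ ∀ t i, a t * g i = g i * a t)
    (zu2 : ∀ (X Y : V8 F →ₗ[F] V8 F) (c : F → (V8 F ≃ₗ[F] V8 F)), (∀ t, c t ∈ AutD (fG s)) →
      (∀ t v, c t v = v + t • X v + t ^ 2 • Y v) → (Nat.card F = 8 → finrank F (LinearMap.range Y) ≤ 1) →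
      X = 0 ∧ Y = 0) : False := by
  have hp : p.Prime := CharP.char_is_prime F p
  have := Fact.mk hp
  obtain ⟨X, Y, a, hX, hY, ha, haE, hadd, hcom⟩ := opg
  have a0 : a 0 = 1 := by
    apply LinearEquiv.ext
    intro v
    rw [ha, zero_smul, zero_pow (by norm_num), zero_smul, add_zero, add_zero]
    rfl
  let φ : Multiplicative F →* (V8 F ≃ₗ[F] V8 F) :=
    { toFun := fun t => a (Multiplicative.toAdd t)
      map_one' := a0
      map_mul' := fun t u => hadd _ _ }
  have hφ : ∀ t : F, a t = φ (Multiplicative.ofAdd t) := fun t => rfl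
  have hA : IsPGroup p φ.range := by
    rintro ⟨_, t, rfl⟩
    refine ⟨1, Subtype.ext ?_⟩
    rw [pow_one, Subgroup.coe_pow]
    change φ t ^ p = 1
    rw [← map_pow]
    have : t ^ p = 1 := by
      apply Multiplicative.toAdd.injective
      rw [toAdd_pow, toAdd_one, nsmul_eq_mul, CharP.cast_eq_zero, zero_mul]
    rw [this, map_one]
  obtain ⟨d, hd, hdA⟩ := h.kl_lin hN hp (h.ir hN hp hrp) (fun h2 => by
      have := CharP.cast_eq_zero F p
      rw [h2] at this
      exact_mod_cast this) φ.range hA (by rintro _ ⟨t, rfl⟩; exact haE _) (by rintro _ ⟨t, rfl⟩ i; exact hcom _ i)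
  let X' : V8 F →ₗ[F] V8 F := (d : V8 F →ₗ[F] V8 F) ∘ₗ X ∘ₗ (d.symm : V8 F →ₗ[F] V8 F)
  let Y' : V8 F →ₗ[F] V8 F := (d : V8 F →ₗ[F] V8 F) ∘ₗ Y ∘ₗ (d.symm : V8 F →ₗ[F] V8 F)
  have h1 := zu2 X' Y' (fun t => d * a t * d⁻¹) (fun t => hdA _ ⟨_, rfl⟩) (fun t v => by
    change d (a t (d.symm v)) = v + t • d (X (d.symm v)) + t ^ 2 • d (Y (d.symm v))
    rw [ha, map_add, map_add, map_smul, map_smul, LinearEquiv.apply_symm_apply]) (fun h8 => by
    have hp2 : p = 2 := by
      have h9 : (8 : F) = 0 := by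
        have hft := Fintype.ofFinite F
        have := Nat.cast_card_eq_zero F
        have e : Fintype.card F = 8 := by rw [← Nat.card_eq_fintype_card]; exact h8
        rw [e] at this
        exact_mod_cast this
      have h10 : p ∣ 8 := (CharP.cast_eq_zero_iff F p 8).1 (by exact_mod_cast h9)
      have h11 : p ∣ 2 ^ 3 := by norm_num; exact h10
      exact (Nat.prime_dvd_prime_iff_eq hp Nat.prime_two).1 (hp.dvd_of_dvd_pow h11)
    refine le_trans (le_of_eq ?_) (hY hp2)
    have e1 : LinearMap.range Y' = (LinearMap.range Y).map (d : V8 F →ₗ[F] V8 F) := by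
      rw [LinearMap.range_comp, LinearMap.range_comp_of_range_eq_top]
      exact LinearEquiv.range d.symm
    rw [e1]
    exact LinearEquiv.finrank_map_eq d _)
  apply hX
  apply LinearMap.ext
  intro v
  have h2 := LinearMap.congr_fun h1.1 (d v)
  have h3 : d (X (d.symm (d v))) = 0 := h2
  rw [LinearEquiv.symm_apply_apply] at h3
  exact d.map_eq_zero_iff.1 h3

/-- an element of `E Q` of odd prime order `l` commuting with the `g i`: `AutD` contains an element of order `l` -/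
theorem T3.exists_order [Finite F] [Finite G] [Finite ι] (h : T3 hG N κ s Ω x₁ x r g) (hN : NoN Ω N) {l : ℕ}
    (hl : l.Prime) (hl2 : l ≠ 2) {c : V8 F ≃ₗ[F] V8 F} (hcE : c ∈ E (plusForm 4 F)) (hcl : c ^ l = 1) (hc1 : c ≠ 1)
    (hcc : ∀ i, c * g i = g i * c) : ∃ c' ∈ AutD (fG s), c' ^ l = 1 ∧ c' ≠ 1 := by
  by_cases h1 : ∃ i, r i = l
  · obtain ⟨i, rfl⟩ := h1
    exact ⟨g i, h.mem i, h.pow i, h.ne1 i⟩
  · push Not at h1
    have := Fact.mk hl
    have ho : orderOf c = l := orderOf_eq_prime hcl hc1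
    obtain ⟨d, hd, hdc⟩ := h.kl_lin hN hl (h.ir hN hl h1) (fun h => (hl2 h).elim) (Subgroup.zpowers c)
      (IsPGroup.of_card (n := 1) (by rw [Nat.card_zpowers, ho, pow_one])) (Subgroup.zpowers_le.2 hcE) (by
        rintro a ha i
        obtain ⟨n, rfl⟩ := Subgroup.mem_zpowers_iff.1 ha
        have h2 : Commute c (g i) := hcc i
        exact (h2.zpow_left n).eq)
    refine ⟨d * c * d⁻¹, hdc c (Subgroup.mem_zpowers c), by rw [conj_pow, hcl]; group, fun h2 => hc1 ?_⟩
    have h3 : c = d⁻¹ * (d * c * d⁻¹) * d := by group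
    rw [h3, h2]
    group

/-- `dead_G2`, from the orders which do not occur in `AutD (fG s)` -/
theorem dead_G2_of [Finite F] [Finite G] [Finite ι] (h : T3 hG N κ s Ω x₁ x r g)
    (hN : NoN Ω N) (h2 : G2 g)
    (zn9 : ∀ {c : V8 F ≃ₗ[F] V8 F}, c ∈ AutD (fG s) → ∀ {l : ℕ}, l.Prime → l ≠ 3 →
      (l ∣ Nat.card F ^ 2 + Nat.card F + 1 ∨ l ∣ Nat.card F ^ 2 - Nat.card F + 1) → c ^ l = 1 → c = 1)
    {q0 : ℕ} (hq0 : 2 ≤ q0) (hq : Nat.card F = q0 ^ 3)
    (zn4 : ∀ {c : V8 F ≃ₗ[F] V8 F}, c ∈ AutD (fG s) → ∀ {l : ℕ}, l.Prime → l ≠ 2 → l ∣ q0 ^ 2 + 1 → c ^ l = 1 → c = 1) :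
    False := by
  obtain ⟨n, hn, hc⟩ := h2
  have hcard : 2 ≤ Nat.card F := by
    rw [hq]
    calc 2 ≤ q0 := hq0
      _ ≤ q0 ^ 3 := Nat.le_self_pow (by norm_num) q0
  rcases hn with rfl | rfl | rfl
  · obtain ⟨l, hl, hl2, hl3, hln⟩ := exists_prime_ne (n := Nat.card F ^ 2 + Nat.card F + 1) (by nlinarith only [hcard])
      odd_nine.1 odd_nine.2
    obtain ⟨c, hcE, hcl, hc1, hcc⟩ := hc l hl hl2 hl3 hln
    obtain ⟨c', hc', hcl', hc1'⟩ := h.exists_order hN hl hl2 hcE hcl hc1 hcc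
    exact hc1' (zn9 hc' hl hl3 (Or.inl hln) hcl')
  · have h8 : 8 ≤ Nat.card F := by
      rw [hq]
      calc 8 = 2 ^ 3 := by norm_num
        _ ≤ q0 ^ 3 := Nat.pow_le_pow_left hq0 3
    have h3 : 3 < Nat.card F ^ 2 - Nat.card F + 1 := by
      have : Nat.card F ^ 2 ≥ 8 * Nat.card F := by nlinarith only [h8]
      omega
    obtain ⟨l, hl, hl2, hl3, hln⟩ := exists_prime_ne h3 (odd_nine' (by omega)).1 (odd_nine' (by omega)).2
    obtain ⟨c, hcE, hcl, hc1, hcc⟩ := hc l hl hl2 hl3 hln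
    obtain ⟨c', hc', hcl', hc1'⟩ := h.exists_order hN hl hl2 hcE hcl hc1 hcc
    exact hc1' (zn9 hc' hl hl3 (Or.inr hln) hcl')
  · obtain ⟨l, hl, hl2, hl3, hln⟩ := exists_prime_four hq0
    have hln' : l ∣ Nat.card F ^ 2 + 1 := by
      refine hln.trans ⟨q0 ^ 4 - q0 ^ 2 + 1, ?_⟩
      rw [hq]
      have h4 : q0 ^ 2 ≤ q0 ^ 4 := Nat.pow_le_pow_right (by omega) (by norm_num)
      zify [h4]
      ring
    obtain ⟨c, hcE, hcl, hc1, hcc⟩ := hc l hl hl2 hl3 hln'
    obtain ⟨c', hc', hcl', hc1'⟩ := h.exists_order hN hl hl2 hcE hcl hc1 hcc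
    exact hc1' (zn4 hc' hl hl2 hln hcl')

/-- an element of order `p` of `E Q` commuting with the `g i`, all `r i ≠ p` -/
theorem dead_G0 [Finite F] [Finite G] [Finite ι] [Nonempty Ω] {p : ℕ} [CharP F p] (h : T3 hG N κ s Ω x₁ x r g)
    (hN : NoN Ω N) (hrp : ∀ i, r i ≠ p) {c : V8 F ≃ₗ[F] V8 F} (hcE : c ∈ E (plusForm 4 F)) (hcp : c ^ p = 1)
    (hc1 : c ≠ 1) (hcc : ∀ i, c * g i = g i * c) : False :=
  dead_opg h hN hrp
    (exists_opg (CharP.char_is_prime F p) hG (fun i => (h.mem i).1) h.prime hrp h.pow h.comm hcE hcp hc1 hcc)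
    fun X Y c hc hX hY => Cfsg.Agent.H499.RC.ZU2 h.cube h.ne X Y c hc hX hY

/-- `G2` -/
theorem dead_G2 [Finite F] [Finite G] [Finite ι] [Nonempty Ω] (h : T3 hG N κ s Ω x₁ x r g)
    (hN : NoN Ω N) (h2 : G2 g) : False := by
  obtain ⟨q0, hq0, hq, -, -, -⟩ := Cfsg.Agent.H256.RC.BQ h.cube h.ne
  exact dead_G2_of h hN h2 (fun hc _ hl hl3 h1 hcl => Cfsg.Agent.H393.TZ.ZN9 h.cube h.ne hc hl hl3 h1 hcl) hq0 hq
    (fun hc _ hl hl2 h1 hcl => Cfsg.Agent.H256.RC.ZN4 h.cube h.ne hq hc hl hl2 h1 hcl)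

end env

end Cfsg.Agent.H864.RC
end

-- part: H338/RC/DeadG1
section
/-!
# S3510, triality type iii (helper338): two dual totally singular planes

`dead_G1_of` : the alternative (G1) is impossible (inputs `BQ` and `ZA` as hypotheses).
-/

set_option autoImplicit false
open Cfsg

namespace Cfsg.Agent.H338.RC.G1

open Module QuadraticMap MulAction
open Cfsg.Agent.LieClassical.OrthCore Cfsg.Agent.LieClassical.OrthTrans
open Cfsg.Agent.LieClassical.OrthSimple Cfsg.Agent.ClassicalGeometry.OrthSemi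
open Cfsg.Agent.ClassicalGeometry.OrthAut1 Cfsg.Agent.H106.RC Cfsg.Agent.H93.RC Cfsg.Agent.H566.RC
open Cfsg.Agent.LieClassical.QuadForms Cfsg.Agent.ClassicalGeometry.TrialityOct
open Cfsg.Agent.ClassicalGeometry.Triality
open Cfsg.Agent.H198.TriBase Cfsg.Agent.H198.TriAut Cfsg.Agent.H198.TriDia
open Cfsg.Agent.H206.Balance hiding Good
open Cfsg.Agent.H864.RC

/-! ### Arithmetic -/

theorem exists_prime {q : ℕ} (hq : 2 ≤ q) :
    ∃ l : ℕ, l.Prime ∧ l ≠ 2 ∧ l ≠ 3 ∧ l ∣ q ^ 2 + q + 1 ∧ ¬ l ∣ q ^ 2 - 1 := by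
  obtain ⟨l, hl, h3, hd⟩ : ∃ l : ℕ, l.Prime ∧ l ≠ 3 ∧ l ∣ q ^ 2 + q + 1 := by
    by_contra hcon
    push Not at hcon
    have h1 : ∀ {d : ℕ}, d.Prime → d ∣ q ^ 2 + q + 1 → d = 3 := by
      intro d hd hdd
      by_contra hne
      exact hcon d hd hne hdd
    have h2 := Nat.eq_prime_pow_of_unique_prime_dvd (by positivity) h1
    set k := (q ^ 2 + q + 1).primeFactorsList.length with hk
    have h7 : 7 ≤ q ^ 2 + q + 1 := by nlinarith only [hq]
    have hk2 : 2 ≤ k := by
      by_contra hlt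
      have : k = 0 ∨ k = 1 := by omega
      rcases this with h | h <;> rw [h] at h2 <;> omega
    have h9 : 9 ∣ q ^ 2 + q + 1 := by
      rw [h2]
      exact pow_dvd_pow 3 hk2
    have h10 : (q ^ 2 + q + 1) % 9 = 0 := Nat.mod_eq_zero_of_dvd h9
    have h11 : q % 9 < 9 := Nat.mod_lt _ (by norm_num)
    rw [Nat.add_mod, Nat.add_mod (q ^ 2), Nat.pow_mod] at h10
    interval_cases (q % 9) <;> (clear * - h10; omega)
  refine ⟨l, hl, ?_, h3, hd, ?_⟩
  · rintro rfl
    have h1 : Even (q * (q + 1)) := Nat.even_mul_succ_self q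
    have h2 : q ^ 2 + q + 1 = q * (q + 1) + 1 := by ring
    rw [h2] at hd
    have h3 : 2 ∣ q * (q + 1) := h1.two_dvd
    have h4 := (Nat.dvd_add_right h3).1 hd
    omega
  · intro h
    have h1 : q ^ 2 - 1 = (q + 1) * (q - 1) := by
      have := Nat.sq_sub_sq q 1
      rwa [one_pow] at this
    rw [h1, hl.dvd_mul] at h
    rcases h with h | h
    · have h2 : q ^ 2 + q + 1 = (q + 1) * q + 1 := by ring
      rw [h2] at hd
      have h4 := (Nat.dvd_add_right (h.mul_right q)).1 hd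
      exact hl.one_lt.ne' (Nat.dvd_one.1 h4)
    · obtain ⟨m, rfl⟩ : ∃ m, q = m + 1 := ⟨q - 1, by omega⟩
      have h5 : m + 1 - 1 = m := by omega
      rw [h5] at h
      have h2 : (m + 1) ^ 2 + (m + 1) + 1 = m * (m + 3) + 3 := by ring
      rw [h2] at hd
      have h4 := (Nat.dvd_add_right (h.mul_right _)).1 hd
      exact h3 ((Nat.prime_dvd_prime_iff_eq hl Nat.prime_three).1 h4)

/-! ### The torus of two dual planes -/

section torus

variable {F V : Type*} [Field F] [AddCommGroup V] [Module F V] {Q : QuadraticForm F V}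

/-- hyperbolic frame -/
structure Fr2 (Q : QuadraticForm F V) (e₁ e₂ f₁ f₂ : V) : Prop where
  s1 : Q e₁ = 0
  s2 : Q e₂ = 0
  t1 : Q f₁ = 0
  t2 : Q f₂ = 0
  ee : polar Q e₁ e₂ = 0
  ff : polar Q f₁ f₂ = 0
  p11 : polar Q e₁ f₁ = 1
  p22 : polar Q e₂ f₂ = 1
  p12 : polar Q e₁ f₂ = 0
  p21 : polar Q e₂ f₁ = 0

variable {e₁ e₂ f₁ f₂ : V}

/-- `z` on `⟨e₁, e₂⟩`, `w` on `⟨f₁, f₂⟩` -/
def DL (Q : QuadraticForm F V) (e₁ e₂ f₁ f₂ : V) (z w : F) : V →ₗ[F] V where
  toFun x := x + ((z - 1) * polar Q x f₁) • e₁ + ((z - 1) * polar Q x f₂) • e₂ +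
    ((w - 1) * polar Q x e₁) • f₁ + ((w - 1) * polar Q x e₂) • f₂
  map_add' x y := by
    simp only [polar_add_left]
    module
  map_smul' a x := by
    simp only [polar_smul_left, RingHom.id_apply, smul_eq_mul]
    module

theorem DL_apply (z w : F) (x : V) : DL Q e₁ e₂ f₁ f₂ z w x =
    x + ((z - 1) * polar Q x f₁) • e₁ + ((z - 1) * polar Q x f₂) • e₂ +
    ((w - 1) * polar Q x e₁) • f₁ + ((w - 1) * polar Q x e₂) • f₂ := rfl

section

variable (h : Fr2 Q e₁ e₂ f₁ f₂)

include h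

theorem DL_f1 (z w : F) (x : V) : polar Q (DL Q e₁ e₂ f₁ f₂ z w x) f₁ = z * polar Q x f₁ := by
  rw [DL_apply]
  simp only [polar_add_left, polar_smul_left, h.p11, h.p21, polar_self_of_sing h.t1, polar_comm Q f₂ f₁, h.ff,
    smul_eq_mul]
  ring

theorem DL_f2 (z w : F) (x : V) : polar Q (DL Q e₁ e₂ f₁ f₂ z w x) f₂ = z * polar Q x f₂ := by
  rw [DL_apply]
  simp only [polar_add_left, polar_smul_left, h.p12, h.p22, polar_self_of_sing h.t2, h.ff, smul_eq_mul]
  ring

theorem DL_e1 (z w : F) (x : V) : polar Q (DL Q e₁ e₂ f₁ f₂ z w x) e₁ = w * polar Q x e₁ := by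
  rw [DL_apply]
  simp only [polar_add_left, polar_smul_left, polar_comm Q f₁ e₁, polar_comm Q f₂ e₁, polar_comm Q e₂ e₁, h.p11, h.p12,
    h.ee, polar_self_of_sing h.s1, smul_eq_mul]
  ring

theorem DL_e2 (z w : F) (x : V) : polar Q (DL Q e₁ e₂ f₁ f₂ z w x) e₂ = w * polar Q x e₂ := by
  rw [DL_apply]
  simp only [polar_add_left, polar_smul_left, polar_comm Q f₁ e₂, polar_comm Q f₂ e₂, h.p21, h.p22, h.ee,
    polar_self_of_sing h.s2, smul_eq_mul]
  ring

theorem DL_mul (z w z' w' : F) (x : V) : DL Q e₁ e₂ f₁ f₂ z w (DL Q e₁ e₂ f₁ f₂ z' w' x) =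
    DL Q e₁ e₂ f₁ f₂ (z * z') (w * w') x := by
  rw [DL_apply z w, DL_f1 h, DL_f2 h, DL_e1 h, DL_e2 h, DL_apply z' w', DL_apply (z * z')]
  module

omit h in
theorem DL_one (x : V) : DL Q e₁ e₂ f₁ f₂ 1 1 x = x := by
  rw [DL_apply]
  simp

theorem DL_Q {z w : F} (hzw : z * w = 1) (x : V) : Q (DL Q e₁ e₂ f₁ f₂ z w x) = Q x := by
  rw [DL_apply]
  simp only [Q_add, QuadraticMap.map_smul, polar_add_left, polar_smul_left, polar_smul_right, h.s1, h.s2, h.t1,
    h.t2, h.ee, h.ff, h.p11, h.p12, h.p21, h.p22, smul_eq_mul]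
  linear_combination (polar Q x f₁ * polar Q x e₁ + polar Q x f₂ * polar Q x e₂) * hzw

end

/-- the torus -/
noncomputable def D (h : Fr2 Q e₁ e₂ f₁ f₂) : Fˣ →* (V ≃ₗ[F] V) where
  toFun z := LinearEquiv.ofLinearMap (DL Q e₁ e₂ f₁ f₂ (z : F) ((z⁻¹ : Fˣ) : F))
    (DL Q e₁ e₂ f₁ f₂ ((z⁻¹ : Fˣ) : F) (z : F))
    (by
      ext x
      rw [LinearMap.comp_apply, DL_mul h, Units.mul_inv, Units.inv_mul, DL_one]
      rfl)
    (by
      ext x
      rw [LinearMap.comp_apply, DL_mul h, Units.mul_inv, Units.inv_mul, DL_one]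
      rfl)
  map_one' := LinearEquiv.ext fun x => by
    change DL Q e₁ e₂ f₁ f₂ ((1 : Fˣ) : F) (((1 : Fˣ)⁻¹ : Fˣ) : F) x = x
    rw [inv_one, Units.val_one, DL_one]
  map_mul' z w := LinearEquiv.ext fun x => by
    change DL Q e₁ e₂ f₁ f₂ ((z * w : Fˣ) : F) (((z * w)⁻¹ : Fˣ) : F) x =
      DL Q e₁ e₂ f₁ f₂ (z : F) ((z⁻¹ : Fˣ) : F) (DL Q e₁ e₂ f₁ f₂ (w : F) ((w⁻¹ : Fˣ) : F) x)
    rw [DL_mul h, mul_inv, Units.val_mul, Units.val_mul]

theorem D_apply (h : Fr2 Q e₁ e₂ f₁ f₂) (z : Fˣ) (x : V) :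
    D h z x = DL Q e₁ e₂ f₁ f₂ (z : F) ((z⁻¹ : Fˣ) : F) x := rfl

theorem D_mem_O (h : Fr2 Q e₁ e₂ f₁ f₂) (z : Fˣ) : D h z ∈ O Q := fun x => by
  rw [D_apply]
  exact DL_Q h (Units.mul_inv z) x

theorem D_perp (h : Fr2 Q e₁ e₂ f₁ f₂) (z : Fˣ) {x : V} (h1 : polar Q x e₁ = 0) (h2 : polar Q x e₂ = 0)
    (h3 : polar Q x f₁ = 0) (h4 : polar Q x f₂ = 0) : D h z x = x := by
  rw [D_apply, DL_apply, h1, h2, h3, h4]
  simp

theorem D_L (h : Fr2 Q e₁ e₂ f₁ f₂) (z : Fˣ) {x : V} (hx : x ∈ Submodule.span F {e₁, e₂}) :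
    D h z x = (z : F) • x := by
  obtain ⟨a, b, rfl⟩ := Submodule.mem_span_pair.1 hx
  rw [D_apply, DL_apply]
  simp only [polar_add_left, polar_smul_left, h.p11, h.p12, h.p21, h.p22, polar_self_of_sing h.s1,
    polar_self_of_sing h.s2, h.ee, polar_comm Q e₂ e₁, smul_eq_mul]
  module

theorem D_L' (h : Fr2 Q e₁ e₂ f₁ f₂) (z : Fˣ) {x : V} (hx : x ∈ Submodule.span F {f₁, f₂}) :
    D h z x = ((z⁻¹ : Fˣ) : F) • x := by
  obtain ⟨a, b, rfl⟩ := Submodule.mem_span_pair.1 hx
  rw [D_apply, DL_apply]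
  simp only [polar_add_left, polar_smul_left, polar_comm Q f₁ e₁, polar_comm Q f₁ e₂, polar_comm Q f₂ e₁,
    polar_comm Q f₂ e₂, h.p11, h.p12, h.p21, h.p22, polar_self_of_sing h.t1, polar_self_of_sing h.t2, h.ff,
    polar_comm Q f₂ f₁, smul_eq_mul]
  module

/-- the decomposition of a vector -/
theorem exists_dec (h : Fr2 Q e₁ e₂ f₁ f₂) (x : V) : ∃ l ∈ Submodule.span F {e₁, e₂}, ∃ m ∈ Submodule.span F {f₁, f₂},
    ∃ w : V, x = l + m + w ∧ polar Q w e₁ = 0 ∧ polar Q w e₂ = 0 ∧ polar Q w f₁ = 0 ∧ polar Q w f₂ = 0 := by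
  refine ⟨polar Q x f₁ • e₁ + polar Q x f₂ • e₂, Submodule.mem_span_pair.2 ⟨_, _, rfl⟩,
    polar Q x e₁ • f₁ + polar Q x e₂ • f₂, Submodule.mem_span_pair.2 ⟨_, _, rfl⟩,
    x - (polar Q x f₁ • e₁ + polar Q x f₂ • e₂) - (polar Q x e₁ • f₁ + polar Q x e₂ • f₂), by abel, ?_, ?_, ?_, ?_⟩ <;>
  simp only [polar_sub_left, polar_add_left, polar_smul_left, polar_comm Q f₁ e₁, polar_comm Q f₁ e₂,
    polar_comm Q f₂ e₁, polar_comm Q f₂ e₂, h.p11, h.p12, h.p21, h.p22, polar_self_of_sing h.t1,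
    polar_self_of_sing h.t2, polar_self_of_sing h.s1, polar_self_of_sing h.s2, h.ff, h.ee, polar_comm Q f₂ f₁,
    polar_comm Q e₂ e₁, smul_eq_mul] <;>
  ring

/-- the torus commutes with the isometries preserving the two planes -/
theorem D_comm (h : Fr2 Q e₁ e₂ f₁ f₂) (z : Fˣ) {g : V ≃ₗ[F] V} (hg : g ∈ O Q)
    (h1 : ∀ x ∈ Submodule.span F {e₁, e₂}, g x ∈ Submodule.span F {e₁, e₂})
    (h2 : ∀ x ∈ Submodule.span F {f₁, f₂}, g x ∈ Submodule.span F {f₁, f₂})
    (h1' : ∀ x ∈ Submodule.span F {e₁, e₂}, ∃ y ∈ Submodule.span F {e₁, e₂}, g y = x)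
    (h2' : ∀ x ∈ Submodule.span F {f₁, f₂}, ∃ y ∈ Submodule.span F {f₁, f₂}, g y = x) :
    D h z * g = g * D h z := by
  apply LinearEquiv.ext
  intro x
  obtain ⟨l, hl, m, hm, w, rfl, w1, w2, w3, w4⟩ := exists_dec h x
  have k1 : ∀ y ∈ Submodule.span F {e₁, e₂}, polar Q w y = 0 := by
    intro y hy
    obtain ⟨a, b, rfl⟩ := Submodule.mem_span_pair.1 hy
    rw [polar_add_right, polar_smul_right, polar_smul_right, w1, w2, smul_zero, smul_zero, add_zero]
  have k2 : ∀ y ∈ Submodule.span F {f₁, f₂}, polar Q w y = 0 := by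
    intro y hy
    obtain ⟨a, b, rfl⟩ := Submodule.mem_span_pair.1 hy
    rw [polar_add_right, polar_smul_right, polar_smul_right, w3, w4, smul_zero, smul_zero, add_zero]
  have k1' : ∀ y ∈ Submodule.span F {e₁, e₂}, polar Q (g w) y = 0 := by
    intro y hy
    obtain ⟨y', hy', rfl⟩ := h1' y hy
    rw [polar_map hg]
    exact k1 y' hy'
  have k2' : ∀ y ∈ Submodule.span F {f₁, f₂}, polar Q (g w) y = 0 := by
    intro y hy
    obtain ⟨y', hy', rfl⟩ := h2' y hy
    rw [polar_map hg]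
    exact k2 y' hy'
  have me1 : e₁ ∈ Submodule.span F {e₁, e₂} := Submodule.subset_span (by simp)
  have me2 : e₂ ∈ Submodule.span F {e₁, e₂} := Submodule.subset_span (by simp)
  have mf1 : f₁ ∈ Submodule.span F {f₁, f₂} := Submodule.subset_span (by simp)
  have mf2 : f₂ ∈ Submodule.span F {f₁, f₂} := Submodule.subset_span (by simp)
  change D h z (g (l + m + w)) = g (D h z (l + m + w))
  simp only [map_add, map_add, map_add, map_add, map_add, map_add, map_add, map_add, D_L h z hl, D_L' h z hm,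
    D_perp h z w1 w2 w3 w4, D_L h z (h1 l hl), D_L' h z (h2 m hm),
    D_perp h z (k1' _ me1) (k1' _ me2) (k2' _ mf1) (k2' _ mf2), map_smul, map_smul]

/-- bases of two dual planes -/
theorem exists_fr2 {L L' : Submodule F V} (hL2 : finrank F L = 2) (hL2' : finrank F L' = 2) (hs : ∀ v ∈ L, Q v = 0)
    (hs' : ∀ v ∈ L', Q v = 0) (hd : ∀ v ∈ L, (∀ w ∈ L', polar Q v w = 0) → v = 0) :
    ∃ e₁ e₂ f₁ f₂ : V, Fr2 Q e₁ e₂ f₁ f₂ ∧ L = Submodule.span F {e₁, e₂} ∧ L' = Submodule.span F {f₁, f₂} := by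
  have i1 : FiniteDimensional F L := FiniteDimensional.of_finrank_pos (by omega)
  have i2 : FiniteDimensional F L' := FiniteDimensional.of_finrank_pos (by omega)
  have hts : ∀ {U : Submodule F V}, (∀ v ∈ U, Q v = 0) → ∀ v ∈ U, ∀ w ∈ U, polar Q v w = 0 := by
    intro U hU v hv w hw
    rw [polar, hU _ (U.add_mem hv hw), hU v hv, hU w hw, sub_zero, sub_zero]
  let b := finBasisOfFinrankEq F L' hL2'
  let Φ : L →ₗ[F] Dual F L' :=
    { toFun := fun v => (polarBilin Q v.1).comp L'.subtype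
      map_add' := fun v w => by
        ext x
        change polar Q (v.1 + w.1) x.1 = polar Q v.1 x.1 + polar Q w.1 x.1
        rw [polar_add_left]
      map_smul' := fun a v => by
        ext x
        change polar Q (a • v.1) x.1 = a • polar Q v.1 x.1
        rw [polar_smul_left] }
  have hΦ : ∀ v x, Φ v x = polar Q v.1 x.1 := fun _ _ => rfl
  have hinj : Function.Injective Φ := by
    rw [injective_iff_map_eq_zero]
    intro v hv
    apply Subtype.ext
    apply hd v.1 v.2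
    intro w hw
    rw [← hΦ v ⟨w, hw⟩, hv, LinearMap.zero_apply]
  have hsur : Function.Surjective Φ := by
    have h1 : finrank F L = finrank F (Dual F L') := by rw [Subspace.dual_finrank_eq, hL2, hL2']
    exact (LinearMap.injective_iff_surjective_of_finrank_eq_finrank h1).1 hinj
  obtain ⟨e₁, he₁⟩ := hsur (b.coord 0)
  obtain ⟨e₂, he₂⟩ := hsur (b.coord 1)
  have p11 : polar Q e₁.1 (b 0).1 = 1 := by rw [← hΦ, he₁]; simp only [_root_.Fin.isValue, _root_.Module.Basis.coord_apply, _root_.Module.Basis.repr_self, _root_.Finsupp.single_eq_same]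
  have p12 : polar Q e₁.1 (b 1).1 = 0 := by rw [← hΦ, he₁]; simp only [_root_.Fin.isValue, _root_.Module.Basis.coord_apply, _root_.Module.Basis.repr_self, _root_.ne_eq, _root_.zero_ne_one, _root_.not_false_eq_true, _root_.Finsupp.single_eq_of_ne]
  have p21 : polar Q e₂.1 (b 0).1 = 0 := by rw [← hΦ, he₂]; simp only [_root_.Fin.isValue, _root_.Module.Basis.coord_apply, _root_.Module.Basis.repr_self, _root_.ne_eq, _root_.one_ne_zero, _root_.not_false_eq_true, _root_.Finsupp.single_eq_of_ne]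
  have p22 : polar Q e₂.1 (b 1).1 = 1 := by rw [← hΦ, he₂]; simp only [_root_.Fin.isValue, _root_.Module.Basis.coord_apply, _root_.Module.Basis.repr_self, _root_.Finsupp.single_eq_same]
  refine ⟨e₁, e₂, b 0, b 1, ⟨hs _ e₁.2, hs _ e₂.2, hs' _ (b 0).2, hs' _ (b 1).2, hts hs _ e₁.2 _ e₂.2,
    hts hs' _ (b 0).2 _ (b 1).2, p11, p22, p12, p21⟩, ?_, ?_⟩
  · symm
    apply Submodule.eq_of_le_of_finrank_eq
    · rw [Submodule.span_le]
      rintro x (rfl | rfl)
      · exact e₁.2
      · exact e₂.2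
    · rw [hL2]
      have hli : LinearIndependent F ![e₁.1, e₂.1] := by
        rw [LinearIndependent.pair_iff]
        intro s t hst
        have h1 := congrArg (fun x => polar Q x (b 0).1) hst
        have h2 := congrArg (fun x => polar Q x (b 1).1) hst
        beta_reduce at h1 h2
        rw [polar_add_left, polar_smul_left, polar_smul_left, p11, p21, polar_zero_left] at h1
        rw [polar_add_left, polar_smul_left, polar_smul_left, p12, p22, polar_zero_left] at h2
        exact ⟨by simpa using h1, by simpa using h2⟩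
      have h3 := finrank_span_eq_card hli
      rw [Matrix.range_cons, Matrix.range_cons, Matrix.range_empty, Set.union_empty, Set.singleton_union] at h3
      rw [h3]
      rfl
  · symm
    apply Submodule.eq_of_le_of_finrank_eq
    · rw [Submodule.span_le]
      rintro x (rfl | rfl)
      · exact (b 0).2
      · exact (b 1).2
    · rw [hL2']
      have hli : LinearIndependent F ![(b 0).1, (b 1).1] := by
        rw [LinearIndependent.pair_iff]
        intro s t hst
        have h1 := congrArg (fun x => polar Q e₁.1 x) hst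
        have h2 := congrArg (fun x => polar Q e₂.1 x) hst
        beta_reduce at h1 h2
        rw [polar_add_right, polar_smul_right, polar_smul_right, p11, p12, polar_zero_right] at h1
        rw [polar_add_right, polar_smul_right, polar_smul_right, p21, p22, polar_zero_right] at h2
        exact ⟨by simpa using h1, by simpa using h2⟩
      have h3 := finrank_span_eq_card hli
      rw [Matrix.range_cons, Matrix.range_cons, Matrix.range_empty, Set.union_empty, Set.singleton_union] at h3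
      rw [h3]
      rfl

/-- an injective linear map preserving a finite-dimensional subspace is onto it -/
theorem exists_pre [FiniteDimensional F V] {g : V ≃ₗ[F] V} {U : Submodule F V} (hg : ∀ x ∈ U, g x ∈ U) :
    ∀ x ∈ U, ∃ y ∈ U, g y = x := by
  intro x hx
  have h1 : Function.Injective ((g : V →ₗ[F] V).restrict hg) := by
    intro a b hab
    exact Subtype.ext (g.injective (congrArg Subtype.val hab))
  obtain ⟨y, hy⟩ := LinearMap.injective_iff_surjective.1 h1 ⟨x, hx⟩
  exact ⟨y.1, y.2, congrArg Subtype.val hy⟩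

end torus

/-! ### The death -/

section dead

variable {F : Type} [Field F] {G Ω ι : Type} [Group G] [MulAction G Ω] {N : Subgroup G} {hG : Good (plusForm 4 F)}
  {κ : P8 F →* G} {s : F ≃+* F} {x₁ : G} {x : ι → G} {r : ι → ℕ} {g : ι → (V8 F ≃ₗ[F] V8 F)}

/-- `{t} ∪ {y} ∪ {x i}`, everything preserving the plane `L` -/
theorem T3_lr [Finite F] [Finite G] [Finite ι] [Nonempty Ω] {p : ℕ} [CharP F p] (h : T3 hG N κ s Ω x₁ x r g)
    (hrp : ∀ i, r i ≠ p) {L : Submodule F (V8 F)} (h2 : finrank F L = 2) (hs : ∀ v ∈ L, plusForm 4 F v = 0)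
    (hinv : ∀ i, ∀ v ∈ L, g i v ∈ L) {l : ℕ} (hl : l.Prime) (hl2 : l ≠ 2) (hlp : l ≠ p)
    (c : ↥(E (plusForm 4 F))) (hcl : (c : V8 F ≃ₗ[F] V8 F) ^ l = 1) (hc1 : (c : V8 F ≃ₗ[F] V8 F) ≠ 1)
    (hcc : ∀ i, (c : V8 F ≃ₗ[F] V8 F) * g i = g i * c) (hcL : ∀ v ∈ L, (c : V8 F ≃ₗ[F] V8 F) v ∈ L)
    (hcov : ∀ ω : Ω, up κ c • ω = ω ∨ ∃ i, x i • ω = ω) : False := by
  have hfin : FiniteDimensional F L := FiniteDimensional.of_finrank_pos (by omega)
  let b := finBasisOfFinrankEq F L h2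
  have hts : ∀ v ∈ L, ∀ w ∈ L, polar (plusForm 4 F) v w = 0 := by
    intro v hv w hw
    rw [polar, hs _ (L.add_mem hv hw), hs v hv, hs w hw, sub_zero, sub_zero]
  have hli : LinearIndependent F ![(b 0).1, (b 1).1] := by
    rw [LinearIndependent.pair_iff]
    intro s t hst
    have h3 := b.linearIndependent
    rw [Fintype.linearIndependent_iff] at h3
    have h4 := h3 ![s, t] (by
      rw [Fin.sum_univ_two]
      exact Subtype.ext hst)
    exact ⟨h4 0, h4 1⟩
  have hspan : Submodule.span F {(b 0).1, (b 1).1} = L := by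
    apply Submodule.eq_of_le_of_finrank_eq
    · rw [Submodule.span_le]
      rintro x (rfl | rfl)
      · exact (b 0).2
      · exact (b 1).2
    · rw [h2]
      have h3 := finrank_span_eq_card hli
      rw [Matrix.range_cons, Matrix.range_cons, Matrix.range_empty, Set.union_empty, Set.singleton_union] at h3
      rw [h3]
      rfl
  have hodd : Odd l := hl.odd_of_ne_two hl2
  have hker : ∀ {d : ↥(E (plusForm 4 F))}, up κ d = 1 → ∃ a : F, ∀ v, (d : V8 F ≃ₗ[F] V8 F) v = a • v := by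
    intro d hd
    have h3 : d ∈ (up κ).ker := hd
    rw [h.rp.rep.ker] at h3
    exact center_scalar hG h3
  have hy1 : up κ c ≠ 1 := by
    intro hc
    obtain ⟨a, ha⟩ := hker hc
    have h3 : a * a = 1 := by
      have h4 := E_le_O c.2 (one8 F)
      rw [ha, QuadraticMap.map_smul, norm_one8, smul_eq_mul, mul_one] at h4
      exact h4
    have h4 : ∀ v, ((c : V8 F ≃ₗ[F] V8 F) ^ l) v = a ^ l • v := by
      intro v
      have := pow_of_smul (f := (c : V8 F ≃ₗ[F] V8 F)) (k := 1) (e := a) ha l v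
      rw [one_pow] at this
      exact this
    have h5 : a ^ l = 1 := by
      have h6 := h4 (one8 F)
      rw [hcl] at h6
      have h7 : (1 - a ^ l) • one8 F = 0 := by
        rw [sub_smul, one_smul, ← h6]
        exact sub_self _
      rcases smul_eq_zero.1 h7 with h8 | h8
      · exact (sub_eq_zero.1 h8).symm
      · exfalso
        have := norm_one8 (F := F)
        rw [h8, QuadraticMap.map_zero] at this
        exact zero_ne_one this
    have h6 := eq_one_of_odd h3 hodd h5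
    apply hc1
    apply LinearEquiv.ext
    intro v
    rw [ha, h6, one_smul]
    rfl
  refine H297.RC.box_LR (Q := plusForm 4 F) (Ω := Ω) hG h.env h.rp.rep (p := p) (ι := Option ι)
    (y := fun o => o.elim (up κ c) x)
    (M := fun o => o.elim (tg _ c) (fun i => tg _ ⟨g i, (h.mem i).1⟩)) (r := fun o => o.elim l r)
    ?_ ?_ ?_ ?_ ?_ ?_ (u := (b 0).1) (w := (b 1).1) (hs _ (b 0).2) (hs _ (b 1).2) (hts _ (b 0).2 _ (b 1).2) ?_ ?_ ?_ ?_
  · rintro (_ | i)
    · exact Lf.tg c
    · change Lf (up κ) (x i) (tg _ ⟨g i, (h.mem i).1⟩)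
      rw [h.x_eq]
      exact Lf.tg _
  · rintro (_ | i)
    · exact hl
    · exact h.prime i
  · rintro (_ | i)
    · exact hlp
    · exact hrp i
  · rintro (_ | i)
    · change up κ c ^ l = 1
      rw [← map_pow]
      have : c ^ l = 1 := Subtype.ext (by rw [Subgroup.coe_pow]; exact hcl)
      rw [this, map_one]
    · exact h.x_pow i
  · rintro (_ | i)
    · exact hy1
    · exact h.x_ne i
  · have hcx : ∀ i, up κ c * x i = x i * up κ c := by
      intro i
      rw [h.x_eq, ← map_mul, ← map_mul]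
      congr 1
      exact Subtype.ext (hcc i)
    rintro (_ | i) (_ | j)
    · rfl
    · exact hcx j
    · exact (hcx i).symm
    · exact h.x_comm i j
  · intro h0
    have := hli.ne_zero 0
    exact this h0
  · intro a ha
    have h3 := LinearIndependent.pair_iff.1 hli a (-1) (by
      rw [ha, neg_smul, one_smul, add_neg_cancel])
    exact neg_ne_zero.2 one_ne_zero h3.2
  · rintro (_ | i) v hv
    · rw [hspan] at hv ⊢
      exact hcL v hv
    · rw [hspan] at hv ⊢
      exact hinv i v hv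
  · intro ω
    right
    rcases hcov ω with h3 | ⟨i, h3⟩
    · exact ⟨none, h3⟩
    · exact ⟨some i, h3⟩

/-- two dual totally singular planes; `BQ`, `ZA` as hypotheses -/
theorem dead_G1_of [Finite F] [Finite G] [Finite ι] [Nonempty Ω] {p : ℕ} [CharP F p] (h : T3 hG N κ s Ω x₁ x r g)
    (hBQ : ∃ q0 : ℕ, 2 ≤ q0 ∧ Nat.card F = q0 ^ 3)
    (hZA : ∀ {q0 : ℕ} (_ : Nat.card F = q0 ^ 3) {c : V8 F ≃ₗ[F] V8 F} (_ : c ∈ AutD (fG s)) {l : ℕ} (_ : l.Prime)
      (_ : l ∣ Nat.card F ^ 2 - 1) (_ : ¬ l ∣ q0 ^ 2 - 1) (_ : c ^ l = 1) (_ : c ≠ 1),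
      finrank F (Eg c 1) = 0 ∨ finrank F (Eg c 1) = 2)
    (hN : NoN Ω N) (hrp : ∀ i, r i ≠ p) {L L' : Submodule F (V8 F)} (hL : G1 g L L') : False := by
  obtain ⟨q0, hq0, hq⟩ := hBQ
  obtain ⟨l, hl, hl2, hl3, hld, hln⟩ := exists_prime hq0
  have hpF := Fact.mk (CharP.char_is_prime F p)
  have hlF := Fact.mk hl
  have hodd : Odd l := hl.odd_of_ne_two hl2
  -- `l` divides `q - 1`
  have hq1 : l ∣ Nat.card F - 1 := by
    refine hld.trans ⟨q0 - 1, ?_⟩
    obtain ⟨m, rfl⟩ : ∃ m, q0 = m + 1 := ⟨q0 - 1, by omega⟩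
    rw [hq]
    have e1 : (m + 1) ^ 3 = ((m + 1) ^ 2 + (m + 1) + 1) * m + 1 := by ring
    have e2 : m + 1 - 1 = m := by omega
    rw [e1, e2]
    omega
  have hq2 : l ∣ Nat.card F ^ 2 - 1 := by
    have h1 : Nat.card F ^ 2 - 1 = (Nat.card F + 1) * (Nat.card F - 1) := by
      have := Nat.sq_sub_sq (Nat.card F) 1
      rwa [one_pow] at this
    rw [h1]
    exact hq1.mul_left _
  -- an element of order `l`
  obtain ⟨z, hz⟩ : ∃ z : Fˣ, orderOf z = l := by
    apply exists_prime_orderOf_dvd_card'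
    rw [Nat.card_units]
    exact hq1
  have hz1 : z ≠ 1 := by
    rintro rfl
    rw [orderOf_one] at hz
    exact hl.one_lt.ne hz
  have hzl : z ^ l = 1 := by rw [← hz]; exact pow_orderOf_eq_one z
  have hlp : l ≠ p := by
    rintro rfl
    apply hz1
    apply Units.ext
    have h1 : ((z : F) - 1) ^ l = 0 := by
      rw [sub_pow_char, one_pow, ← Units.val_pow_eq_pow_val, hzl, Units.val_one, sub_self]
    exact sub_eq_zero.1 (pow_eq_zero_iff hl.ne_zero |>.1 h1)
  have hlF0 : (l : F) ≠ 0 := by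
    intro h1
    rw [CharP.cast_eq_zero_iff F p] at h1
    exact hlp ((Nat.prime_dvd_prime_iff_eq hpF.out hl).1 h1).symm
  -- the torus element
  obtain ⟨e₁, e₂, f₁, f₂, hF, hLe, hLf⟩ := exists_fr2 hL.two hL.two' hL.sing hL.sing' hL.dual
  have hinv1 : ∀ i, ∀ v ∈ Submodule.span F {e₁, e₂}, g i v ∈ Submodule.span F {e₁, e₂} := by
    intro i
    rw [← hLe]
    exact hL.inv i
  have hinv2 : ∀ i, ∀ v ∈ Submodule.span F {f₁, f₂}, g i v ∈ Submodule.span F {f₁, f₂} := by
    intro i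
    rw [← hLf]
    exact hL.inv' i
  set c := D hF z with hc
  have hcl : c ^ l = 1 := by rw [hc, ← map_pow, hzl, map_one]
  have hcE : c ∈ E (plusForm 4 F) := H587.KB8.mem_E_of_odd hG (D_mem_O hF z) hodd hcl
  have hcg : ∀ i, c * g i = g i * c := fun i => D_comm hF z (E_le_O (h.mem i).1) (hinv1 i) (hinv2 i)
    (exists_pre (hinv1 i)) (exists_pre (hinv2 i))
  have hc1 : c ≠ 1 := by
    intro h1
    have h2 := D_L hF z (x := e₁) (Submodule.subset_span (by simp))
    rw [← hc, h1] at h2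
    have h3 : ((z : F) - 1) • e₁ = 0 := by rw [sub_smul, one_smul, ← h2]; exact sub_self _
    rcases smul_eq_zero.1 h3 with h4 | h4
    · exact hz1 (Units.ext (sub_eq_zero.1 h4))
    · have h5 := hF.p11
      rw [h4, polar_zero_left] at h5
      exact zero_ne_one h5
  -- the fixed space of `c` has dimension at least four
  have hfix : 4 ≤ finrank F (Eg c 1) := by
    let W : Submodule F (V8 F) := Submodule.span F {e₁, e₂} ⊔ Submodule.span F {f₁, f₂}
    have h1 : finrank F W ≤ 4 := by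
      have h2 := Submodule.finrank_add_le_finrank_add_finrank (Submodule.span F {e₁, e₂}) (Submodule.span F {f₁, f₂})
      have h3 := H297.RC.finrank_pair_le (F := F) e₁ e₂
      have h4 := H297.RC.finrank_pair_le (F := F) f₁ f₂
      exact h2.trans (by omega)
    have h8 : finrank F (V8 F) = 8 := by simp
    have h2 : finrank F ↥(LinearMap.BilinForm.orthogonal (polarBilin (plusForm 4 F)) W) = 8 - finrank F W := by
      rw [← h8]
      exact LinearMap.BilinForm.finrank_orthogonal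
        (ClassicalGeometry.TrialitySpaces.polarBilin_nondegenerate (F := F)) W
    have h3 : LinearMap.BilinForm.orthogonal (polarBilin (plusForm 4 F)) W ≤ Eg c 1 := by
      intro v hv
      rw [LinearMap.BilinForm.mem_orthogonal_iff] at hv
      have hv' : ∀ w ∈ W, polar (plusForm 4 F) v w = 0 := fun w hw => by
        rw [polar_comm]; exact hv w hw
      have hl : ∀ w ∈ Submodule.span F {e₁, e₂}, w ∈ W := fun w hw => Submodule.mem_sup_left hw
      have hr : ∀ w ∈ Submodule.span F {f₁, f₂}, w ∈ W := fun w hw => Submodule.mem_sup_right hw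
      rw [Module.End.mem_eigenspace_iff, one_smul]
      exact D_perp hF z (hv' _ (hl _ (Submodule.subset_span (by simp)))) (hv' _ (hl _ (Submodule.subset_span (by simp))))
        (hv' _ (hr _ (Submodule.subset_span (by simp)))) (hv' _ (hr _ (Submodule.subset_span (by simp))))
    have h4 : finrank F ↥(LinearMap.BilinForm.orthogonal (polarBilin (plusForm 4 F)) W) ≤ finrank F (Eg c 1) :=
      Submodule.finrank_mono h3
    have h5 : 4 ≤ 8 - finrank F W := by omega
    exact h5.trans (h2 ▸ h4)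
  -- `l` divides the order of `[C, x₁]`
  have hdvd : l ∣ Nat.card (comC (CN N x) x₁) := by
    by_contra hlD
    obtain ⟨d, hdE, hd⟩ := h.kl_lin hN hl hlD (fun h => absurd h hl2) (Subgroup.zpowers c)
      (by
        rintro ⟨a, ha⟩
        obtain ⟨n, rfl⟩ := Subgroup.mem_zpowers_iff.1 ha
        refine ⟨1, Subtype.ext ?_⟩
        rw [pow_one, Subgroup.coe_pow, Subgroup.coe_one]
        change (c ^ n) ^ l = 1
        rw [← zpow_natCast, ← zpow_mul, mul_comm, zpow_mul, zpow_natCast, hcl, one_zpow])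
      (by rw [Subgroup.zpowers_le]; exact hcE)
      (by
        intro a ha i
        obtain ⟨n, rfl⟩ := Subgroup.mem_zpowers_iff.1 ha
        exact ((show Commute c (g i) from hcg i).zpow_left n).eq)
    have hdc := hd c (Subgroup.mem_zpowers c)
    have h1 : (d * c * d⁻¹) ^ l = 1 := by rw [conj_pow, hcl, mul_one, mul_inv_cancel]
    have h2 : d * c * d⁻¹ ≠ 1 := by
      intro h3
      apply hc1
      have : c = d⁻¹ * (d * c * d⁻¹) * d := by group
      rw [this, h3]; group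
    have h3 := hZA hq hdc hl hq2 hln h1 h2
    -- dimension of the fixed space of the conjugate
    have h4 : (Eg c 1).map (d : V8 F →ₗ[F] V8 F) ≤ Eg (d * c * d⁻¹) 1 := by
      rintro _ ⟨v, hv, rfl⟩
      have hv' : c v = (1 : F) • v := Module.End.mem_eigenspace_iff.1 hv
      rw [one_smul] at hv'
      rw [Module.End.mem_eigenspace_iff, one_smul]
      change d (c (d.symm (d v))) = d v
      rw [LinearEquiv.symm_apply_apply, hv']
    have h5 : finrank F ↥((Eg c 1).map (d : V8 F →ₗ[F] V8 F)) ≤ finrank F (Eg (d * c * d⁻¹) 1) :=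
      Submodule.finrank_mono h4
    have h6 : finrank F ↥((Eg c 1).map (d : V8 F →ₗ[F] V8 F)) = finrank F (Eg c 1) := LinearEquiv.finrank_map_eq d _
    have h7 : 4 ≤ finrank F (Eg (d * c * d⁻¹) 1) := hfix.trans (h6 ▸ h5)
    rcases h3 with h3 | h3
    · rw [h3] at h7
      omega
    · rw [h3] at h7
      omega
  obtain ⟨y, hyl, hy1, hyc, hyD⟩ := h.cauchy hl hl2 hdvd
  exact T3_lr h hrp hL.two hL.sing hL.inv hl hl2 hlp y hyl hy1 hyc (hL.pres y y.2 hyc l hl hl2 hlF0 hyl) (h.mv hyD)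

end dead

end Cfsg.Agent.H338.RC.G1
end

-- part: H338/RC/DeadG1Fin
section
/-!
# S3510, triality type iii (helper338): `dead_G1`
-/

set_option autoImplicit false
open Cfsg

namespace Cfsg.Agent.H338.RC

open Module QuadraticMap MulAction
open Cfsg.Agent.LieClassical.OrthCore Cfsg.Agent.LieClassical.OrthTrans
open Cfsg.Agent.LieClassical.OrthSimple Cfsg.Agent.LieClassical.QuadForms
open Cfsg.Agent.ClassicalGeometry.Triality Cfsg.Agent.H106.RC Cfsg.Agent.H93.RC Cfsg.Agent.H566.RC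
open Cfsg.Agent.H198.TriAut Cfsg.Agent.H864.RC

/-- two dual totally singular planes -/
theorem dead_G1 {F : Type} [Field F] {G Ω ι : Type} [Group G] [MulAction G Ω] {N : Subgroup G}
    {hG : Good (plusForm 4 F)} {κ : P8 F →* G} {s : F ≃+* F} {x₁ : G} {x : ι → G} {r : ι → ℕ}
    {g : ι → (V8 F ≃ₗ[F] V8 F)} [Finite F] [Finite G] [Finite ι] [Nonempty Ω] {p : ℕ} [CharP F p]
    (h : T3 hG N κ s Ω x₁ x r g) (hN : NoN Ω N) (hrp : ∀ i, r i ≠ p) {L L' : Submodule F (V8 F)}
    (hL : H864.RC.G1 g L L') : False := by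
  obtain ⟨q0, h2, hq, -⟩ := H256.RC.BQ h.cube h.ne
  exact G1.dead_G1_of h ⟨q0, h2, hq⟩
    (fun hq c hc l hl h1 h2 hcl hc1 => H393.TZ.ZA h.cube h.ne hq hc hl h1 h2 hcl hc1) hN hrp hL

end Cfsg.Agent.H338.RC
end

-- part: H864/RC/Fin3
section
/-!
# S3510, triality type iii: assembly (helper864)
-/

set_option autoImplicit false
open Cfsg

namespace Cfsg.Agent.H864.RC

open Module QuadraticMap MulAction
open Cfsg.Agent.LieClassical.OrthCore Cfsg.Agent.LieClassical.OrthTrans
open Cfsg.Agent.LieClassical.OrthSimple Cfsg.Agent.ClassicalGeometry.OrthSemi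
open Cfsg.Agent.ClassicalGeometry.OrthAut1 Cfsg.Agent.H106.RC Cfsg.Agent.H93.RC Cfsg.Agent.H566.RC
open Cfsg.Agent.LieClassical.QuadForms Cfsg.Agent.ClassicalGeometry.TrialityOct
open Cfsg.Agent.ClassicalGeometry.Triality Cfsg.Agent.ClassicalGeometry.TrialitySpaces
open Cfsg.Agent.H198.TriBase Cfsg.Agent.H198.TriAut Cfsg.Agent.H198.TriDia
open Cfsg.Agent.H206.Balance hiding Good
open Cfsg.Agent.H198.TwComp Cfsg.Agent.H198

/-- a member of order `p` and another member (helper195) -/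
def MixedStmt : Prop :=
  ∀ {F : Type} [Field F] {G Ω ι : Type} [Group G] [MulAction G Ω] {N : Subgroup G} {hG : Good (plusForm 4 F)}
    {κ : P8 F →* G} {s : F ≃+* F} {x₁ : G} {x : ι → G} {r : ι → ℕ} {g : ι → (V8 F ≃ₗ[F] V8 F)}
    [Finite F] [Finite G] [Finite ι] [Nonempty Ω] {p : ℕ} [CharP F p] (_ : T3 hG N κ s Ω x₁ x r g)
    (_ : IH (Nat.card N)) (_ : NoN Ω N) (i₀ j₀ : ι) (_ : r i₀ = p) (_ : r j₀ ≠ p), False

variable {F : Type} [Field F] {G Ω ι : Type} [Group G] [MulAction G Ω] {N : Subgroup G} {hG : Good (plusForm 4 F)}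
  {κ : P8 F →* G} {s : F ≃+* F} {x₁ : G} {x : ι → G} {r : ι → ℕ} {g : ι → (V8 F ≃ₗ[F] V8 F)}

/-- the `p'`-case -/
theorem dead_pprime [Finite F] [Finite G] [Finite ι] [Nonempty Ω] {p : ℕ} [CharP F p]
    (h : T3 hG N κ s Ω x₁ x r g) (hIH : IH (Nat.card N)) (hN : NoN Ω N) (hrp : ∀ i, r i ≠ p) : False := by
  by_cases h0 : ∃ c ∈ E (plusForm 4 F), (∀ i, c * g i = g i * c) ∧ c ^ p = 1 ∧ c ≠ 1
  · obtain ⟨c, hcE, hcc, hcp, hc1⟩ := h0
    exact dead_G0 h hN hrp hcE hcp hc1 hcc
  have hC : ∀ c ∈ E (plusForm 4 F), (∀ i, c * g i = g i * c) → c ^ p = 1 → c = 1 := by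
    intro c hcE hcc hcp
    by_contra hc1
    exact h0 ⟨c, hcE, hcc, hcp, hc1⟩
  rcases H520.RC.box_G_rot hG (fun i => (h.mem i).1) h.prime h.inj hrp h.pow h.comm h.ne1 hC with
    ⟨L, L', hL⟩ | h3 | ⟨P, hP, hrot⟩
  · exact H338.RC.dead_G1 h hN hrp hL
  · exact dead_G2 h hN h3
  · exact H510.Tri3.dead_G3_rot h hIH hrp hP hrot

/-- type iii -/
theorem dead_iii_of (hmix : MixedStmt) [Finite F] [Finite G] [Finite ι] [Nonempty Ω]
    (h : T3 hG N κ s Ω x₁ x r g) (hIH : IH (Nat.card N)) (hN : NoN Ω N) : False := by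
  obtain ⟨p, hp⟩ := CharP.exists F
  by_cases h1 : ∃ i, r i = p
  · obtain ⟨i, hi⟩ := h1
    by_cases h2 : ∃ j, r j ≠ p
    · obtain ⟨j, hj⟩ := h2
      exact hmix h hIH hN i j hi hj
    · push Not at h2
      exact H195.RC.dead_k2 h hN i hi (fun j => h.inj ((h2 j).trans hi.symm))
  · push Not at h1
    exact dead_pprime h hIH hN h1

theorem typeIII_of (hmix : MixedStmt) : H721.RC.TypeIII := by
  intro F _ G Ω ι _ _ N hG κ s x₁ x r g _ _ _ _ h hIH hN
  exact dead_iii_of hmix h hIH hN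

end Cfsg.Agent.H864.RC
end

-- part: H195/RC/TwLong
section
/-!
# S3510, triality of type iii: a member of the family is a long root element (helper195)

`u = siegel e w` commutes with `x₁`: `⟨e, w⟩ ⋄ ⟨e, w⟩ = 0`, `x₁` normalises the long root group `X` and does not centralise it,
all other members centralise it; `box_LR2`.
-/

set_option autoImplicit false
set_option linter.unusedSectionVars false
open Cfsg

namespace Cfsg.Agent.H195.RC

open Module QuadraticMap Cfsg.Agent.LieClassical.OrthCore Cfsg.Agent.LieClassical.OrthTrans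
  Cfsg.Agent.LieClassical.OrthSimple Cfsg.Agent.ClassicalGeometry.OrthAut1
  Cfsg.Agent.ClassicalGeometry.OrthSemi
  Cfsg.Agent.LieClassical.QuadForms 
  Cfsg.Agent.ClassicalGeometry.TrialityOct Cfsg.Agent.ClassicalGeometry.Triality
  Cfsg.Agent.ClassicalGeometry.TrialitySpaces Cfsg.Agent.H198.TriBase Cfsg.Agent.H198.TriAut
  Cfsg.Agent.H206.Balance Cfsg.Agent.H198.TriDia Cfsg.Agent.H106.RC Cfsg.Agent.H93.RC Cfsg.Agent.H566.RC
open Cfsg.Agent.H297.RC (ss ss_eq ss_add ss_neg ss_zero conjE_ss)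
open Cfsg.Agent.H106.RC.LrTwo (lr_mem_or box_LR1 box_LR2 ss_comm_U)

universe u v w

/-! ### isometries with a totally singular two-dimensional commutator -/

section lin

variable {F : Type u} [Field F]

/-- two independent vectors have a dual pair -/
theorem exists_dual {e w : V8 F} (he : e ≠ 0) (hw : ∀ t : F, w ≠ t • e) :
    ∃ e' w' : V8 F, polar (plusForm 4 F) e e' = 1 ∧ polar (plusForm 4 F) w e' = 0 ∧
      polar (plusForm 4 F) e w' = 0 ∧ polar (plusForm 4 F) w w' = 1 := by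
  have key : ∀ (a b : V8 F), a ≠ 0 → (∀ t : F, b ≠ t • a) →
      ∃ c : V8 F, polar (plusForm 4 F) a c = 0 ∧ polar (plusForm 4 F) b c = 1 := by
    intro a b ha hb
    by_contra hcon
    push Not at hcon
    obtain ⟨t, ht⟩ := mem_of_perp ha (v := b) fun c hc => by
      by_contra h0
      rw [polar_comm] at h0
      apply hcon ((polar (plusForm 4 F) b c)⁻¹ • c)
      · rw [polar_smul_right, hc, smul_zero]
      · rw [polar_smul_right, smul_eq_mul, inv_mul_cancel₀ h0]
    exact hb t ht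
  obtain ⟨w', h1, h2⟩ := key e w he hw
  have hw0 : w ≠ 0 := fun h0 => hw 0 (by rw [h0, zero_smul])
  obtain ⟨e', h3, h4⟩ := key w e hw0 (fun t ht => by
    by_cases h0 : t = 0
    · rw [h0, zero_smul] at ht; exact he ht
    · exact hw t⁻¹ (by rw [ht, smul_smul, inv_mul_cancel₀ h0, one_smul]))
  exact ⟨e', w', h4, h3, h1, h2⟩

/-- an isometry with `[V, u]` totally singular of dimension two is a long root element -/
theorem exists_long {u : V8 F ≃ₗ[F] V8 F} (hu : ∀ v, plusForm 4 F (u v) = plusForm 4 F v)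
    (h2 : finrank F (LinearMap.range ((u : V8 F →ₗ[F] V8 F) - LinearMap.id)) = 2)
    (hs : ∀ v, plusForm 4 F (u v - v) = 0) :
    ∃ e w : V8 F, e ≠ 0 ∧ (∀ t : F, w ≠ t • e) ∧ plusForm 4 F e = 0 ∧ plusForm 4 F w = 0 ∧
      polar (plusForm 4 F) e w = 0 ∧
      ∀ v, u v = v + (polar (plusForm 4 F) e v • w - polar (plusForm 4 F) w v • e) := by
  set N := (u : V8 F →ₗ[F] V8 F) - LinearMap.id with hN
  have hNa : ∀ v, N v = u v - v := fun v => rfl
  have hup : ∀ x y, polar (plusForm 4 F) (u x) (u y) = polar (plusForm 4 F) x y := by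
    intro x y
    rw [QuadraticMap.polar, QuadraticMap.polar, ← map_add, hu, hu, hu]
  -- basis of the range
  obtain ⟨e, w, he, hw, ⟨ze, hze⟩, ⟨zw, hzw⟩, hr⟩ : ∃ e w : V8 F, e ≠ 0 ∧ (∀ t : F, w ≠ t • e) ∧ (∃ z, N z = e) ∧
      (∃ z, N z = w) ∧ ∀ v, ∃ a b : F, N v = a • e + b • w := by
    let B := Module.finBasisOfFinrankEq F (LinearMap.range N) h2
    refine ⟨B 0, B 1, ?_, ?_, (B 0).2, (B 1).2, ?_⟩
    · intro h0
      exact B.ne_zero 0 (Subtype.ext h0)
    · intro t ht
      have h4 : B 1 = t • B 0 := Subtype.ext ht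
      have h5 := congrArg (fun z => B.repr z 1) h4
      simp only [_root_.Fin.isValue, _root_.Module.Basis.repr_self, _root_.Finsupp.single_eq_same, _root_.map_smul, _root_.Finsupp.smul_single, _root_.smul_eq_mul, _root_.mul_one, _root_.ne_eq, _root_.one_ne_zero, _root_.not_false_eq_true, _root_.Finsupp.single_eq_of_ne] at h5
    · intro v
      have h3 := B.sum_repr ⟨N v, v, rfl⟩
      rw [Fin.sum_univ_two] at h3
      exact ⟨_, _, (congrArg Subtype.val h3).symm⟩
  have hNN : ∀ x y, polar (plusForm 4 F) (N x) (N y) = 0 := by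
    intro x y
    rw [QuadraticMap.polar, ← map_add, hNa, hNa, hNa, hs, hs, hs]
    simp
  have hskew : ∀ x y, polar (plusForm 4 F) (N x) y = - polar (plusForm 4 F) x (N y) := by
    intro x y
    have h3 := hup x y
    have e1 : u x = x + N x := by rw [hNa]; abel
    have e2 : u y = y + N y := by rw [hNa]; abel
    rw [e1, e2, polar_add_left, polar_add_right, polar_add_right, hNN] at h3
    linear_combination h3
  have halt : ∀ x, polar (plusForm 4 F) x (N x) = 0 := by
    intro x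
    have h3 := hu x
    have e1 : u x = x + N x := by rw [hNa]; abel
    rw [e1, norm_add, hNa, hs] at h3
    linear_combination h3
  have hQe : plusForm 4 F e = 0 := by rw [← hze, hNa, hs]
  have hQw : plusForm 4 F w = 0 := by rw [← hzw, hNa, hs]
  have hew : polar (plusForm 4 F) e w = 0 := by rw [← hze, ← hzw, hNN]
  obtain ⟨e', w', h11, h12, h21, h22⟩ := exists_dual he hw
  obtain ⟨α, β, h3⟩ := hr e'
  obtain ⟨γ, δ, h4⟩ := hr w'
  have k1 : ∀ v, N v = (-(α * polar (plusForm 4 F) v e + β * polar (plusForm 4 F) v w)) • e +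
      (-(γ * polar (plusForm 4 F) v e + δ * polar (plusForm 4 F) v w)) • w := by
    intro v
    obtain ⟨a, b, hab⟩ := hr v
    have e1 := hskew v e'
    have e2 := hskew v w'
    rw [hab, h3, polar_add_left, polar_smul_left, polar_smul_left, h11, h12, polar_add_right, polar_smul_right,
      polar_smul_right] at e1
    rw [hab, h4, polar_add_left, polar_smul_left, polar_smul_left, h21, h22, polar_add_right, polar_smul_right,
      polar_smul_right] at e2
    simp only [smul_eq_mul, mul_one, mul_zero, add_zero, zero_add] at e1 e2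
    rw [hab, e1, e2]
  have c1 : polar (plusForm 4 F) e' e = 1 := by rw [polar_comm]; exact h11
  have c2 : polar (plusForm 4 F) e' w = 0 := by rw [polar_comm]; exact h12
  have c3 : polar (plusForm 4 F) w' e = 0 := by rw [polar_comm]; exact h21
  have c4 : polar (plusForm 4 F) w' w = 1 := by rw [polar_comm]; exact h22
  have hα : α = 0 := by
    have := halt e'
    rw [h3, polar_add_right, polar_smul_right, polar_smul_right, c1, c2] at this
    simpa using this
  have hδ : δ = 0 := by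
    have := halt w'
    rw [h4, polar_add_right, polar_smul_right, polar_smul_right, c3, c4] at this
    simpa using this
  have hβ : γ = -β := by
    have := halt (e' + w')
    simp only [map_add, h3, h4, polar_add_right, polar_add_left (plusForm 4 F) e' w' (α • e + β • w), polar_add_left (plusForm 4 F) e' w' (γ • e + δ • w), polar_add_right (plusForm 4 F) e' (α • e) (β • w), polar_add_right (plusForm 4 F) w' (α • e) (β • w),       polar_add_right (plusForm 4 F) e' (γ • e) (δ • w), polar_add_right (plusForm 4 F) w' (γ • e) (δ • w)] at this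
    simp only [polar_smul_right, c1, c2, c3, c4, smul_eq_mul, mul_one, mul_zero, add_zero, zero_add] at this
    rw [hα, hδ] at this
    linear_combination this
  have k2 : ∀ v, N v = polar (plusForm 4 F) e v • (β • w) - polar (plusForm 4 F) (β • w) v • e := by
    intro v
    rw [k1, hα, hδ, hβ, polar_smul_left, polar_comm _ v e, polar_comm _ v w]
    simp only [smul_eq_mul]
    module
  have hβ0 : β ≠ 0 := by
    intro h0
    apply he
    rw [← hze, k2, h0, zero_smul, smul_zero, polar_zero_left, zero_smul, sub_zero]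
  refine ⟨e, β • w, he, ?_, hQe, ?_, ?_, ?_⟩
  · intro t ht
    apply hw (β⁻¹ * t)
    rw [mul_smul, ← ht, smul_smul, inv_mul_cancel₀ hβ0, one_smul]
  · rw [QuadraticMap.map_smul, hQw, smul_zero]
  · rw [polar_smul_right, hew, smul_zero]
  · intro v
    rw [← k2, hNa]; abel

variable {φ : F ≃+* F} (h : ∀ a : F, φ (φ (φ a)) = a)

include h

/-- the kernel of `e ⋄ ·` has dimension at least four -/
theorem exists_ker {e w : V8 F} (he : e ≠ 0) (hQe : plusForm 4 F e = 0) :
    ∃ z : V8 F, tw φ e z = 0 ∧ z ∉ Submodule.span F {e, w} := by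
  by_contra hcon
  push Not at hcon
  let T : V8 F →ₗ[F] V8 F :=
    { toFun := fun z => cf φ (cf φ (tw φ e z))
      map_add' := fun a b => by rw [tw_add_right h, cf_add, cf_add]
      map_smul' := fun c a => by rw [tw_smul_right h, cf_smul, cf_smul, h]; rfl }
  have hTa : ∀ z, T z = cf φ (cf φ (tw φ e z)) := fun _ => rfl
  have h1 := LinearMap.finrank_range_add_finrank_ker T
  have h8 : finrank F (V8 F) = 8 := by
    rw [Module.finrank_pi, Fintype.card_sum, Fintype.card_fin]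
  have h2 : finrank F (LinearMap.range T) ≤ 4 := by
    apply finrank_le_four
    rintro _ ⟨z, rfl⟩
    rw [hTa, cf_norm, cf_norm, tw_norm h, hQe]
    simp
  have h3 : LinearMap.ker T ≤ Submodule.span F {e, w} := by
    intro z hz
    apply hcon
    have h5 : cf φ (cf φ (tw φ e z)) = 0 := hz
    have := congrArg (cf φ) h5
    rw [cf3 h] at this
    rw [this]
    funext i
    exact map_zero φ
  have h4 := (Submodule.finrank_mono h3).trans (H297.RC.finrank_pair_le e w)
  omega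

end lin

/-! ### the case of a long root element -/

section main

variable {F : Type u} [Field F] [Finite F] {φ : F ≃+* F}
variable {G : Type v} {Ω : Type w} [Group G] [Finite G] [MulAction G Ω] [Nonempty Ω] {N : Subgroup G}
  {κ : P8 F →* G} {x₁ : G}

/-- a long root element commuting with `x₁` : the products of `e`, `w` vanish -/
theorem inP_of_comm (h : ∀ a : F, φ (φ (φ a)) = a) (hG : _root_.Cfsg.Agent.LieClassical.OrthTrans.Good (plusForm 4 F))
    (hκ : Rp (plusForm 4 F) N κ) (h1 : La κ x₁ (xt hG (fG φ))) {e w : V8 F} (he : e ≠ 0)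
    (hwe : ∀ t : F, w ≠ t • e) (hQe : plusForm 4 F e = 0) (hQw : plusForm 4 F w = 0)
    (hew : polar (plusForm 4 F) e w = 0)
    (hc : x₁ * up κ (ss (plusForm 4 F) e w) = up κ (ss (plusForm 4 F) e w) * x₁) :
    tw φ e e = 0 ∧ InP φ e w := by
  have h2 := conj_ss h hG h1 hQe hQw hew
  rw [hc, mul_inv_cancel_right] at h2
  have h3 : Lf (up κ) (up κ (ss (plusForm 4 F) e w)) (tg _ (ss (plusForm 4 F) e w)) := Lf.tg _
  have h4 := h2.mul h3.inv
  rw [mul_inv_cancel] at h4
  obtain ⟨c, hc0, hcs⟩ := (h4.scal_iff hG hκ.rep).2 (fun t => by simp)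
  have h5 : ∀ v, v + Rw φ e w v = c • (v + (polar (plusForm 4 F) e v • w - polar (plusForm 4 F) w v • e)) := by
    intro v
    have h6 := hcs ((tg _ (ss (plusForm 4 F) e w)).1 v)
    change (RG h hQe hew).1 ((tg _ (ss (plusForm 4 F) e w))⁻¹.1 ((tg _ (ss (plusForm 4 F) e w)).1 v)) = _ at h6
    have h7 : (tg _ (ss (plusForm 4 F) e w))⁻¹.1 ((tg _ (ss (plusForm 4 F) e w)).1 v) = v :=
      (tg _ (ss (plusForm 4 F) e w)).1.symm_apply_apply v
    rw [h7, tg_apply, ss_apply hQe hew, hQw, zero_mul, zero_smul, sub_zero, add_sub_assoc] at h6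
    exact h6
  have hee0 : polar (plusForm 4 F) e e = 0 := by rw [QuadraticMap.polar_self, hQe, smul_zero]
  have hwe0 : polar (plusForm 4 F) w e = 0 := by rw [polar_comm]; exact hew
  have hRe : Rw φ e w e = (c - 1) • e := by
    have := h5 e
    rw [hee0, hwe0, zero_smul, zero_smul, sub_zero, add_zero] at this
    rw [sub_smul, one_smul, ← this]; abel
  have hc1 : c = 1 := by
    have h6 := Rw_Rw h hQe hew e
    rw [hRe, Rw_smul h, hRe, smul_smul] at h6
    have h7 := (smul_eq_zero.1 h6).resolve_right he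
    exact sub_eq_zero.1 (mul_self_eq_zero.1 h7)
  have h8 : ∀ v, Rw φ e w v = polar (plusForm 4 F) e v • w - polar (plusForm 4 F) w v • e := by
    intro v
    have := h5 v
    rw [hc1, one_smul] at this
    exact add_left_cancel this
  obtain ⟨e', w', d1, d2, d3, d4⟩ := exists_dual he hwe
  have he' : Rw φ e w e' = w := by rw [h8, d1, d2]; simp
  have hw' : Rw φ e w w' = -e := by rw [h8, d3, d4]; simp
  have l1 : ∀ v, tw φ w (Rw φ e w v) = 0 := by
    intro v
    unfold Rw
    rw [tw_tw' h, hQw]; simp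
  have l2 : ∀ v, tw φ e (Rw φ e w v) = 0 := by
    intro v
    rw [Rw_anti h hew]
    unfold Rw
    rw [tw_neg_right h, tw_tw' h, hQe]; simp
  have r1 : tw φ w e = 0 := by
    have := l1 w'
    rw [hw', tw_neg_right h] at this
    exact neg_eq_zero.1 this
  have r2 : tw φ e w = 0 := by
    have := l2 e'
    rwa [he'] at this
  have r3 : tw φ e e = 0 := by
    have := l2 w'
    rw [hw', tw_neg_right h] at this
    exact neg_eq_zero.1 this
  exact ⟨r3, r2, r1⟩

end main

section stub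

open Cfsg.Agent.H864.RC

variable {F : Type} [Field F] {G Ω ι : Type} [Group G] [MulAction G Ω] {N : Subgroup G}
  {hG : _root_.Cfsg.Agent.LieClassical.OrthTrans.Good (plusForm 4 F)} {κ : P8 F →* G} {s : F ≃+* F} {x₁ : G} {x : ι → G} {r : ι → ℕ}
  {g : ι → (V8 F ≃ₗ[F] V8 F)}

/-- **a member `u` of order `p` which is a long root element** -/
theorem dead_long [Finite F] [Finite G] [Finite ι] [Nonempty Ω] {p : ℕ} [CharP F p]
    (h : T3 hG N κ s Ω x₁ x r g) (i₀ : ι) (hi : r i₀ = p)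
    (h2 : finrank F (LinearMap.range ((g i₀ : V8 F →ₗ[F] V8 F) - LinearMap.id)) = 2)
    (hs : ∀ v, plusForm 4 F (g i₀ v - v) = 0) : False := by
  have h3 := h.cube
  have hρ := h.rp.rep
  obtain ⟨t, ht⟩ : ∃ t, s t ≠ t := by
    by_contra hcon
    push Not at hcon
    exact h.ne (RingEquiv.ext hcon)
  have hgE : ∀ i, g i ∈ E (plusForm 4 F) := fun i => (h.mem i).1
  obtain ⟨e, w, he, hwe, hQe, hQw, hew, hu⟩ := exists_long (fun v => E_le_O (hgE i₀) v) h2 hs
  have hgs : (⟨g i₀, hgE i₀⟩ : ↥(E (plusForm 4 F))) = ss (plusForm 4 F) e w := by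
    apply Subtype.ext
    apply LinearEquiv.ext
    intro v
    rw [ss_apply hQe hew, hQw, zero_mul, zero_smul, sub_zero, add_sub_assoc]
    exact hu v
  have hx0 : x i₀ = up κ (ss (plusForm 4 F) e w) := by rw [h.x_eq, hgs]
  have hcx : x₁ * up κ (ss (plusForm 4 F) e w) = up κ (ss (plusForm 4 F) e w) * x₁ := by
    rw [← hx0]; exact h.x1_comm i₀
  obtain ⟨hee, hw⟩ := inP_of_comm h3 hG h.rp h.tri he hwe hQe hQw hew hcx
  obtain ⟨f, hf⟩ := exists_f he
  -- `x₁` on the root group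
  have hb : ∀ t : F, x₁ * up κ (ss (plusForm 4 F) e (t • w)) * x₁⁻¹ = up κ (ss (plusForm 4 F) e (s t • w)) := by
    intro t
    rw [conj_ss_inP h3 hG h.env h.rp h.tri he hee (hw.smul h3 t) hf]
    have e1 : Rw s e (t • w) f = s t • Rw s e w f := by
      unfold Rw
      rw [tw_smul_right h3]
    have hR := Rw_inP h3 (f := f) hee hw hew
    have e2 := conj_ss_inP h3 hG h.env h.rp h.tri he hee hw hf
    rw [hcx, mul_inv_cancel_right] at e2
    -- `ss e w` and `ss e (R f)` have the same image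
    have e3 : Lf (up κ) (up κ (ss (plusForm 4 F) e w) * (up κ (ss (plusForm 4 F) e (Rw s e w f)))⁻¹)
        (tg _ (ss (plusForm 4 F) e w) * (tg _ (ss (plusForm 4 F) e (Rw s e w f)))⁻¹) := (Lf.tg _).mul (Lf.tg _).inv
    rw [e2, mul_inv_cancel] at e3
    obtain ⟨c, hc0, hcs⟩ := (e3.scal_iff hG hρ).2 (fun t => by simp)
    have e5 : ∀ v, (ss (plusForm 4 F) e w : V8 F ≃ₗ[F] V8 F) v =
        c • (ss (plusForm 4 F) e (Rw s e w f) : V8 F ≃ₗ[F] V8 F) v := by
      intro v
      have h6 := hcs ((tg _ (ss (plusForm 4 F) e (Rw s e w f))).1 v)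
      change (tg _ (ss (plusForm 4 F) e w)).1 ((tg _ (ss (plusForm 4 F) e (Rw s e w f)))⁻¹.1
        ((tg _ (ss (plusForm 4 F) e (Rw s e w f))).1 v)) = _ at h6
      have h7 : (tg _ (ss (plusForm 4 F) e (Rw s e w f)))⁻¹.1 ((tg _ (ss (plusForm 4 F) e (Rw s e w f))).1 v) = v :=
        (tg _ (ss (plusForm 4 F) e (Rw s e w f))).1.symm_apply_apply v
      rw [h7] at h6
      exact h6
    have hee0 : polar (plusForm 4 F) e e = 0 := by rw [QuadraticMap.polar_self, hQe, smul_zero]
    have hc1 : c = 1 := by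
      have e6 := e5 e
      rw [ss_apply hQe hew, ss_apply hQe (hR.polar h3 he hee), hee0, polar_comm _ w e, hew,
        polar_comm _ (Rw s e w f) e, hR.polar h3 he hee] at e6
      have e7 : (1 - c) • e = 0 := by
        rw [sub_smul, one_smul, sub_eq_zero]
        simpa using e6
      exact (sub_eq_zero.1 ((smul_eq_zero.1 e7).resolve_right he)).symm
    have e8 : w - Rw s e w f = (polar (plusForm 4 F) w f - polar (plusForm 4 F) (Rw s e w f) f) • e := by
      have e6 := e5 f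
      rw [hc1, one_smul, ss_apply hQe hew, ss_apply hQe (hR.polar h3 he hee), hf, hQw, hR.norm h3 he] at e6
      simp only [one_smul, zero_mul, zero_smul, sub_zero] at e6
      rw [sub_smul]
      have e9 : w - polar (plusForm 4 F) w f • e = Rw s e w f - polar (plusForm 4 F) (Rw s e w f) f • e := by
        have e10 : f + w - polar (plusForm 4 F) w f • e = f + (w - polar (plusForm 4 F) w f • e) := by abel
        have e11 : f + Rw s e w f - polar (plusForm 4 F) (Rw s e w f) f • e =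
            f + (Rw s e w f - polar (plusForm 4 F) (Rw s e w f) f • e) := by abel
        rw [e10, e11] at e6
        exact add_left_cancel e6
      rw [sub_eq_sub_iff_add_eq_add] at e9
      rw [sub_eq_sub_iff_add_eq_add, e9]
      abel
    have hsw : polar (plusForm 4 F) e (s t • w) = 0 := by rw [polar_smul_right, hew, smul_zero]
    rw [e1]
    congr 1
    set k := polar (plusForm 4 F) w f - polar (plusForm 4 F) (Rw s e w f) f with hk
    have e12 : Rw s e w f = w + (-k) • e := by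
      rw [neg_smul, ← e8]; abel
    rw [e12, smul_add, smul_smul, ss_add hQe hsw (by rw [polar_smul_right, hee0, smul_zero]), ss_self hQe, mul_one]
  -- the members centralise the root group
  have hgL : ∀ i, ∀ v ∈ Submodule.span F {e, w}, g i v ∈ Submodule.span F {e, w} := by
    intro i
    have key : ∀ v, g i (g i₀ v - v) ∈ Submodule.span F {e, w} := by
      intro v
      have e1 : g i (g i₀ v - v) = g i₀ (g i v) - g i v := by
        rw [map_sub]
        congr 1
        exact LinearEquiv.congr_fun (h.comm i i₀) v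
      rw [e1, hu]
      have e2 : g i v + (polar (plusForm 4 F) e (g i v) • w - polar (plusForm 4 F) w (g i v) • e) - g i v =
          polar (plusForm 4 F) e (g i v) • w - polar (plusForm 4 F) w (g i v) • e := by abel
      rw [e2]
      exact sub_mem (Submodule.smul_mem _ _ (Submodule.subset_span (by simp)))
        (Submodule.smul_mem _ _ (Submodule.subset_span (by simp)))
    obtain ⟨e', w', d1, d2, d3, d4⟩ := exists_dual he hwe
    have k1 : g i₀ e' - e' = w := by rw [hu, d1, d2]; simp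
    have k2 : g i₀ w' - w' = -e := by rw [hu, d3, d4]; simp
    intro v hv
    obtain ⟨a, b, rfl⟩ := Submodule.mem_span_pair.1 hv
    rw [map_add, map_smul, map_smul]
    refine add_mem (Submodule.smul_mem _ _ ?_) (Submodule.smul_mem _ _ ?_)
    · have := key w'
      rw [k2, map_neg] at this
      exact (Submodule.neg_mem_iff _).1 this
    · have := key e'
      rwa [k1] at this
  have hcent : ∀ (i : ι) (t : F), up κ (ss (plusForm 4 F) e (t • w)) * x i = x i * up κ (ss (plusForm 4 F) e (t • w)) := by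
    intro i t
    have htw : polar (plusForm 4 F) e (t • w) = 0 := by rw [polar_smul_right, hew, smul_zero]
    rw [h.x_eq, ← map_mul, ← map_mul]
    congr 1
    apply Subtype.ext
    apply LinearEquiv.ext
    intro v
    change (ss (plusForm 4 F) e (t • w) : V8 F ≃ₗ[F] V8 F) (g i v) =
      g i ((ss (plusForm 4 F) e (t • w) : V8 F ≃ₗ[F] V8 F) v)
    have e1 : g i₀ (g i v) = g i (g i₀ v) := (LinearEquiv.congr_fun (h.comm i i₀) v).symm
    rw [hu, hu, map_add] at e1
    have e2 := add_left_cancel e1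
    rw [ss_apply hQe htw, ss_apply hQe htw, QuadraticMap.map_smul, hQw, smul_zero, zero_mul, zero_smul, sub_zero,
      zero_mul, zero_smul, sub_zero, add_sub_assoc, add_sub_assoc, map_add]
    congr 1
    have e3 : ∀ v : V8 F, polar (plusForm 4 F) e v • t • w - polar (plusForm 4 F) (t • w) v • e =
        t • (polar (plusForm 4 F) e v • w - polar (plusForm 4 F) w v • e) := by
      intro v
      rw [polar_smul_left]
      simp only [smul_eq_mul]
      module
    rw [e3, e3, map_smul, e2]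
  -- the cover
  have hd : (up κ (ss (plusForm 4 F) e (t • w)))⁻¹ * (x₁ * up κ (ss (plusForm 4 F) e (t • w)) * x₁⁻¹) =
      up κ (ss (plusForm 4 F) e ((s t - t) • w)) := by
    have h4 : ∀ c : F, polar (plusForm 4 F) e (c • w) = 0 := fun c => by rw [polar_smul_right, hew, smul_zero]
    simp only [hb, ← map_inv, ← map_mul, ← ss_neg hQe (h4 t), ← neg_smul, ← ss_add hQe (h4 _) (h4 _), ← add_smul]
    congr 3
    ring
  obtain ⟨z, hz1, hz2⟩ := exists_ker h3 (w := w) he hQe
  have hez : polar (plusForm 4 F) z e = 0 := by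
    have := tw_tw' h3
    have h5 : QuadraticMap.polar (plusForm 4 F) z e = 0 := by
      rw [QuadraticMap.polar, norm_of_left h3 he hz1, hQe,
        norm_of_left h3 he (z := z + e) (by rw [tw_add_right h3, hz1, hee, add_zero])]
      simp
    exact h5
  have hzw : polar (plusForm 4 F) z w = 0 := by
    rw [QuadraticMap.polar, norm_of_left h3 he hz1, hQw,
      norm_of_left h3 he (z := z + w) (by rw [tw_add_right h3, hz1, hw.left, add_zero])]
    simp
  refine box_LR2 (ι := {i : ι // i ≠ i₀}) (p := p) (y := fun i => x i.1) (M := fun i => tg _ ⟨g i.1, hgE i.1⟩)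
    (r := fun i => r i.1) (a := s t - t) (b := 1) hG h.env hρ (fun i => ?_) (fun i => h.prime i.1)
    (fun i hip => i.2 (h.inj (hip.trans hi.symm))) (fun i => h.x_pow i.1) (fun i => h.x_ne i.1)
    (fun i j => h.x_comm i.1 j.1) hQe hQw hew he hwe (fun i v hv => hgL i.1 v hv)
    (norm_of_left h3 he hz1) hez hzw hz2 (sub_ne_zero.2 ht) one_ne_zero ?_
  · rw [h.x_eq]; exact Lf.tg _
  · intro ω
    rw [one_smul, ← hx0, ← hd]
    by_cases hω : ∃ i, x i • ω = ω
    · obtain ⟨i, hi'⟩ := hω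
      by_cases hii : i = i₀
      · rw [hii] at hi'; exact Or.inr (Or.inl hi')
      · exact Or.inr (Or.inr ⟨⟨i, hii⟩, hi'⟩)
    · left
      push Not at hω
      have k1 : x₁ • ω = ω := (h.cov ω).resolve_right (fun ⟨i, hi'⟩ => hω i hi')
      have k3 : x₁ • up κ (ss (plusForm 4 F) e (t • w)) • ω = up κ (ss (plusForm 4 F) e (t • w)) • ω := by
        rcases h.cov (up κ (ss (plusForm 4 F) e (t • w)) • ω) with h5 | ⟨i, h5⟩
        · exact h5
        · exfalso
          rw [← mul_smul, ← hcent, mul_smul] at h5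
          exact hω i (MulAction.injective _ h5)
      have k4 : x₁⁻¹ • ω = ω := by rw [inv_smul_eq_iff, k1]
      rw [mul_smul, mul_smul, k4, mul_smul, k3, inv_smul_smul]

end stub

end Cfsg.Agent.H195.RC
end

-- part: H579/RC/MixRing
section
/-!
# S3510, triality type iii, MIX-LIN: ring theory (helper579)

* idempotents of a reduced artinian commutative ring;
* automorphisms of order two of finite fields, elements of norm one;
* the ring `F[X]/(X^r - 1)` with its involution and its action by a linear map `A`, `A^r = 1`.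
-/

set_option autoImplicit false

namespace Cfsg.Agent.H579.RC.Mix

open Polynomial Module

section idem

variable {R : Type*} [CommRing R] [IsReduced R] [IsArtinianRing R]

theorem eq_zero_of_mem {x : R} (h : ∀ I : Ideal R, I.IsMaximal → x ∈ I) : x = 0 := by
  apply (IsArtinianRing.equivPi R).injective
  funext I
  rw [IsArtinianRing.equivPi_apply, map_zero, Pi.zero_apply]
  exact Ideal.Quotient.eq_zero_iff_mem.2 (h _ I.2)

/-- the idempotent of the maximal ideal `I` -/
structure Idem (I : Ideal R) (ε : R) : Prop where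
  one : ε - 1 ∈ I
  mem : ∀ J : Ideal R, J.IsMaximal → J ≠ I → ε ∈ J

theorem exists_idem {I : Ideal R} (hI : I.IsMaximal) : ∃ ε : R, Idem I ε := by
  classical
  let s : ∀ J : MaximalSpectrum R, R ⧸ J.asIdeal := Pi.single ⟨I, hI⟩ 1
  refine ⟨(IsArtinianRing.equivPi R).symm s, ?_, fun J hJ hne => ?_⟩
  · have h1 : IsArtinianRing.equivPi R ((IsArtinianRing.equivPi R).symm s) ⟨I, hI⟩ = s ⟨I, hI⟩ := by
      rw [AlgEquiv.apply_symm_apply]
    rw [IsArtinianRing.equivPi_apply] at h1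
    have h2 : s ⟨I, hI⟩ = 1 := Pi.single_eq_same _ _
    rw [h2] at h1
    exact Ideal.Quotient.eq.1 (h1.trans (map_one _).symm)
  · have h1 : IsArtinianRing.equivPi R ((IsArtinianRing.equivPi R).symm s) ⟨J, hJ⟩ = s ⟨J, hJ⟩ := by
      rw [AlgEquiv.apply_symm_apply]
    rw [IsArtinianRing.equivPi_apply] at h1
    have h2 : s ⟨J, hJ⟩ = 0 := Pi.single_eq_of_ne (fun h => hne (congrArg MaximalSpectrum.asIdeal h)) _
    rw [h2] at h1
    exact Ideal.Quotient.eq_zero_iff_mem.1 h1

variable {I : Ideal R} {ε : R}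

theorem Idem.mul_zero (h : Idem I ε) {y : R} (hy : y ∈ I) : y * ε = 0 := by
  apply eq_zero_of_mem
  intro J hJ
  by_cases hne : J = I
  · rw [hne]; exact I.mul_mem_right _ hy
  · exact J.mul_mem_left _ (h.mem J hJ hne)

theorem Idem.sq (h : Idem I ε) : ε * ε = ε := by
  have h1 := h.mul_zero h.one
  rw [sub_mul, one_mul, sub_eq_zero] at h1
  exact h1

theorem Idem.uniq {ε' : R} (h : Idem I ε) (h' : Idem I ε') : ε = ε' := by
  have h1 := h.mul_zero h'.one
  have h2 := h'.mul_zero h.one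
  rw [sub_mul, one_mul, sub_eq_zero] at h1 h2
  exact (h1.symm.trans (mul_comm _ _)).trans h2

theorem Idem.mul_zero_of_ne {J : Ideal R} (hI : I.IsMaximal) {ε' : R} (h : Idem I ε) (h' : Idem J ε') (hne : J ≠ I) :
    ε * ε' = 0 := by
  have h1 : ε' ∈ I := h'.mem I hI (Ne.symm hne)
  rw [mul_comm]
  exact h.mul_zero h1

end idem

section field

variable {F K : Type*} [Field F] [Fintype F] [Field K] [Finite K] [Algebra F K]

/-- an involutory automorphism -/
theorem inv_frob {σ : K →ₐ[F] K} (h2 : ∀ x, σ (σ x) = x) (h1 : ∃ x, σ x ≠ x) :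
    ∃ m, 0 < m ∧ finrank F K = 2 * m ∧ ∀ x, σ x = x ^ (Fintype.card F ^ m) := by
  obtain ⟨⟨j, hj⟩, hσ⟩ := (FiniteField.bijective_frobeniusAlgHom_pow F K).2 σ
  have hσ' : FiniteField.frobeniusAlgHom F K ^ j = σ := hσ
  have hx : ∀ x, σ x = x ^ (Fintype.card F ^ j) := by
    intro x
    rw [← hσ', AlgHom.coe_pow, FiniteField.coe_frobeniusAlgHom, pow_iterate]
  have hj0 : j ≠ 0 := by
    rintro rfl
    obtain ⟨x, hx'⟩ := h1
    apply hx'
    rw [hx, pow_zero, pow_one]
  have h3 : FiniteField.frobeniusAlgHom F K ^ (2 * j) = 1 := by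
    rw [two_mul, pow_add, hσ']
    ext x
    exact h2 x
  have h4 := orderOf_dvd_of_pow_eq_one h3
  rw [FiniteField.orderOf_frobeniusAlgHom] at h4
  obtain ⟨k, hk⟩ := h4
  refine ⟨j, Nat.pos_of_ne_zero hj0, ?_, hx⟩
  have hk1 : k = 1 := by
    have h5 : k ≠ 0 := by
      rintro rfl
      omega
    by_contra h6
    have h7 : 2 ≤ k := by omega
    have h8 : finrank F K * 2 ≤ finrank F K * k := Nat.mul_le_mul_left _ h7
    omega
  rw [hk1] at hk
  omega

theorem exists_order {n : ℕ} (hn : n ∣ Nat.card K - 1) : ∃ z : K, orderOf z = n := by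
  classical
  have := Fintype.ofFinite K
  obtain ⟨g, hg⟩ := IsCyclic.exists_ofOrder_eq_natCard (α := Kˣ)
  rw [Nat.card_units] at hg
  obtain ⟨k, hk⟩ := hn
  have hpos : 0 < Nat.card K - 1 := by
    have := Finite.one_lt_card (α := K)
    omega
  have hk0 : k ≠ 0 := by
    rintro rfl
    omega
  refine ⟨((g ^ k : Kˣ) : K), ?_⟩
  rw [orderOf_units, orderOf_pow_of_dvd hk0 (by rw [hg, hk]; exact dvd_mul_left _ _), hg, hk,
    Nat.mul_div_cancel _ (Nat.pos_of_ne_zero hk0)]

/-- fixed by the Frobenius -/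
theorem mem_of_frob {t : K} (h : t ^ Fintype.card F = t) : ∃ τ : F, algebraMap F K τ = t := by
  have h1 : ∀ f : K ≃ₐ[F] K, f t = t := by
    intro f
    obtain ⟨⟨j, hj⟩, hf⟩ := (FiniteField.bijective_frobeniusAlgEquivOfAlgebraic_pow F K).2 f
    have hf' : FiniteField.frobeniusAlgEquivOfAlgebraic F K ^ j = f := hf
    rw [← hf', AlgEquiv.coe_pow, FiniteField.coe_frobeniusAlgEquivOfAlgebraic]
    exact Function.iterate_fixed h j
  exact (IsGalois.mem_range_algebraMap_iff_fixed t).2 h1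

/-- `m` odd: elements of order `n ∣ q + 1` -/
theorem exists_norm_one {m : ℕ} (hd : finrank F K = 2 * m) (hm : Odd m) {n : ℕ} (hn : n ∣ Fintype.card F + 1) :
    ∃ z : K, orderOf z = n ∧ z * z ^ (Fintype.card F ^ m) = 1 ∧ ∃ τ : F, z * z + 1 = algebraMap F K τ * z := by
  have hcard : Nat.card K = Fintype.card F ^ (2 * m) := by
    rw [Module.natCard_eq_pow_finrank (K := F), hd, Nat.card_eq_fintype_card]
  have h1 : Fintype.card F + 1 ∣ Fintype.card F ^ m + 1 := by
    have := hm.nat_add_dvd_pow_add_pow (Fintype.card F) 1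
    rwa [one_pow] at this
  have h2 : n ∣ Nat.card K - 1 := by
    rw [hcard]
    have h3 : Fintype.card F ^ (2 * m) - 1 = (Fintype.card F ^ m + 1) * (Fintype.card F ^ m - 1) := by
      rw [pow_mul', ← Nat.sq_sub_sq, one_pow]
    rw [h3]
    exact (hn.trans h1).trans (dvd_mul_right _ _)
  obtain ⟨z, hz⟩ := exists_order h2
  have hz0 : z ≠ 0 := by
    rintro rfl
    have h4 : ¬ IsOfFinOrder (0 : K) := by
      rw [isOfFinOrder_iff_pow_eq_one]
      rintro ⟨k, hk, h⟩
      rw [zero_pow hk.ne'] at h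
      exact zero_ne_one h
    rw [orderOf_eq_zero h4] at hz
    rw [← hz] at hn
    have := Nat.eq_zero_of_zero_dvd hn
    omega
  have hq1 : z ^ (Fintype.card F + 1) = 1 := orderOf_dvd_iff_pow_eq_one.1 (by rw [hz]; exact hn)
  refine ⟨z, hz, ?_, ?_⟩
  · rw [← pow_succ']
    exact orderOf_dvd_iff_pow_eq_one.1 (by rw [hz]; exact hn.trans h1)
  · have hzq : z ^ Fintype.card F = z⁻¹ := by
      rw [pow_succ] at hq1
      exact eq_inv_of_mul_eq_one_left hq1
    obtain ⟨τ, hτ⟩ := mem_of_frob (F := F) (t := z + z⁻¹) (by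
      have h5 := map_add (FiniteField.frobeniusAlgHom F K) z z⁻¹
      rw [FiniteField.coe_frobeniusAlgHom] at h5
      have h6 : (z + z⁻¹) ^ Fintype.card F = z ^ Fintype.card F + z⁻¹ ^ Fintype.card F := h5
      rw [h6, inv_pow, hzq, inv_inv, add_comm])
    refine ⟨τ, ?_⟩
    rw [hτ, add_mul, inv_mul_cancel₀ hz0]

end field

section cyc

variable (F : Type*) [Field F] (r : ℕ)

/-- `F[X]/(X^r - 1)` -/
abbrev Rr : Type _ := F[X] ⧸ Ideal.span {(X ^ r - 1 : F[X])}

/-- the class of `X` -/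
noncomputable def rt : Rr F r := Ideal.Quotient.mk _ X

theorem rt_pow : rt F r ^ r = 1 := by
  have h : (X ^ r - 1 : F[X]) ∈ Ideal.span {(X ^ r - 1 : F[X])} := Ideal.mem_span_singleton_self _
  have h1 := Ideal.Quotient.eq_zero_iff_mem.2 h
  rw [map_sub, map_pow, map_one, sub_eq_zero] at h1
  exact h1

variable {F r}

theorem monic (hr : r ≠ 0) : (X ^ r - 1 : F[X]).Monic := by
  have := monic_X_pow_sub_C (1 : F) hr
  rwa [map_one] at this

theorem finite_Rr (hr : r ≠ 0) : Module.Finite F (Rr F r) := by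
  have h := (monic (F := F) hr).finite_quotient
  exact h

private theorem artin_Rr [Module.Finite F (Rr F r)] : IsArtinianRing (Rr F r) := (IsArtinianRing.of_finite F _ : _)

theorem reduced_Rr (hr : (r : F) ≠ 0) : IsReduced (Rr F r) := by
  have h1 := (X_pow_sub_one_separable_iff.2 hr).squarefree
  have h2 : (X ^ r - 1 : F[X]) ≠ 0 := h1.ne_zero
  have h3 := (isRadical_iff_squarefree_of_ne_zero h2).2 h1
  have h4 := isRadical_iff_span_singleton.1 h3
  exact (Ideal.isRadical_iff_quotient_reduced _).1 h4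

/-- the homomorphism defined by an element `A` with `A ^ r = 1` -/
noncomputable def hm {S : Type*} [Ring S] [Algebra F S] (A : S) (hA : A ^ r = 1) : Rr F r →ₐ[F] S :=
  Ideal.Quotient.liftₐ _ (aeval A) (by
    intro a ha
    obtain ⟨b, rfl⟩ := Ideal.mem_span_singleton.1 ha
    rw [map_mul, map_sub, map_pow, aeval_X, hA, map_one, sub_self, zero_mul])

theorem hm_mk {S : Type*} [Ring S] [Algebra F S] (A : S) (hA : A ^ r = 1) (f : F[X]) :
    hm A hA (Ideal.Quotient.mk _ f) = aeval A f := rfl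

theorem hm_rt {S : Type*} [Ring S] [Algebra F S] (A : S) (hA : A ^ r = 1) : hm A hA (rt F r) = A := by
  rw [rt, hm_mk, aeval_X]

/-- the involution -/
noncomputable def st : Rr F r →ₐ[F] Rr F r := hm (rt F r ^ (r - 1)) (by rw [← pow_mul, mul_comm, pow_mul, rt_pow, one_pow])

theorem st_rt : st (rt F r) = rt F r ^ (r - 1) := hm_rt _ _

theorem ext_Rr {S : Type*} [Ring S] [Algebra F S] {f g : Rr F r →ₐ[F] S} (h : f (rt F r) = g (rt F r)) (x : Rr F r) :
    f x = g x := by
  obtain ⟨p, rfl⟩ := Ideal.Quotient.mk_surjective x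
  have h1 : f.comp (Ideal.Quotient.mkₐ F (Ideal.span {(X ^ r - 1 : F[X])})) =
      g.comp (Ideal.Quotient.mkₐ F (Ideal.span {(X ^ r - 1 : F[X])})) := by
    apply Polynomial.algHom_ext
    exact h
  exact AlgHom.congr_fun h1 p

theorem rt_mul (hr : r ≠ 0) : rt F r * rt F r ^ (r - 1) = 1 := by
  rw [← pow_succ', Nat.sub_add_cancel (Nat.one_le_iff_ne_zero.2 hr), rt_pow]

theorem st_st (hr : r ≠ 0) (x : Rr F r) : st (st x) = x := by
  have h : (st.comp st : Rr F r →ₐ[F] Rr F r) (rt F r) = (AlgHom.id F (Rr F r)) (rt F r) := by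
    rw [AlgHom.comp_apply, st_rt, map_pow, st_rt, AlgHom.id_apply]
    have h1 := rt_mul (F := F) hr
    have h2 : (rt F r ^ (r - 1)) ^ (r - 1) * (rt F r ^ (r - 1)) = 1 := by
      rw [← pow_succ, Nat.sub_add_cancel (Nat.one_le_iff_ne_zero.2 hr), ← pow_mul, mul_comm, pow_mul, rt_pow, one_pow]
    exact (left_inv_eq_right_inv h2 (by rw [mul_comm]; exact h1))
  exact ext_Rr h x

end cyc

end Cfsg.Agent.H579.RC.Mix
end

-- part: H579/RC/MixLin
section
/-!
# S3510, triality type iii, MIX-LIN (helper579)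

For an isometry `a ≠ 1` of prime order `r ≠ 2, p` commuting with `u ≠ 1` of order `p` on an eight-dimensional space:
elements `c` of the algebra `F[a]` which are isometries with `c + c⁻¹` scalar on a nondegenerate `W`, `c = 1` on `W^⊥`.
-/

set_option autoImplicit false
open Cfsg

namespace Cfsg.Agent.H579.RC.Mix

open Module QuadraticMap MulAction
open Cfsg.Agent.LieClassical.OrthCore Cfsg.Agent.LieClassical.OrthTrans
open Cfsg.Agent.H579.RC.Opg

variable {F V : Type*} [Field F] [AddCommGroup V] [Module F V] {Q : QuadraticForm F V}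

/-- an element `a` of the isometry group, `a ^ r = 1`, and the action of `F[X]/(X^r - 1)` -/
structure Dat (Q : QuadraticForm F V) (r : ℕ) (a : V ≃ₗ[F] V) : Prop where
  r0 : r ≠ 0
  rF : (r : F) ≠ 0
  iso : ∀ v, Q (a v) = Q v
  pow : a ^ r = 1

variable {r : ℕ} {a : V ≃ₗ[F] V}

/-- `a` as an endomorphism -/
def en (a : V ≃ₗ[F] V) : Module.End F V := (a : V →ₗ[F] V)

theorem en_pow (a : V ≃ₗ[F] V) (n : ℕ) : en a ^ n = en (a ^ n) := by
  induction n with
  | zero => rfl
  | succ n ih => rw [pow_succ, pow_succ, ih]; rfl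

theorem Dat.en_pow (h : Dat Q r a) : en a ^ r = 1 := by rw [Mix.en_pow, h.pow]; rfl

/-- the action -/
noncomputable def Dat.ac (h : Dat Q r a) : Rr F r →ₐ[F] Module.End F V := hm (en a) h.en_pow

theorem Dat.ac_rt (h : Dat Q r a) : h.ac (rt F r) = en a := hm_rt _ _

theorem Dat.pol (h : Dat Q r a) (v w : V) : polar Q (a v) (a w) = polar Q v w := by
  simp only [QuadraticMap.polar]
  rw [← map_add, h.iso, h.iso, h.iso]

theorem Dat.pol1 (h : Dat Q r a) (v w : V) : polar Q (a v) w = polar Q v ((en a ^ (r - 1)) w) := by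
  have h1 : a ((a ^ (r - 1)) w) = w := by
    have h2 : a * a ^ (r - 1) = 1 := by
      rw [← pow_succ', Nat.sub_add_cancel (Nat.one_le_iff_ne_zero.2 h.r0), h.pow]
    exact LinearEquiv.congr_fun h2 w
  have h2 := h.pol v ((a ^ (r - 1)) w)
  rw [h1] at h2
  rw [h2, Mix.en_pow]
  rfl

/-- adjoints -/
theorem Dat.adj (h : Dat Q r a) (x : Rr F r) (v w : V) : polar Q (h.ac x v) w = polar Q v (h.ac (st x) w) := by
  obtain ⟨p, rfl⟩ := Ideal.Quotient.mk_surjective x
  induction p using Polynomial.induction_on' generalizing v w with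
  | add p q hp hq =>
    rw [map_add, map_add, map_add st, map_add h.ac, LinearMap.add_apply, LinearMap.add_apply, polar_add_left,
      polar_add_right, hp, hq]
  | monomial n c =>
    have e1 : (Ideal.Quotient.mk (Ideal.span {(Polynomial.X ^ r - 1 : Polynomial F)}) (Polynomial.monomial n c)) =
        algebraMap F (Rr F r) c * rt F r ^ n := by
      rw [← Polynomial.C_mul_X_pow_eq_monomial, map_mul, map_pow]
      rfl
    rw [e1, map_mul, map_mul st, map_mul h.ac, AlgHom.commutes, AlgHom.commutes, AlgHom.commutes, map_pow, map_pow st,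
      map_pow h.ac, st_rt, map_pow h.ac, h.ac_rt]
    rw [Module.End.mul_apply, Module.End.mul_apply, Module.algebraMap_end_apply, Module.algebraMap_end_apply,
      polar_smul_left, polar_smul_right]
    congr 1
    clear e1
    induction n generalizing v w with
    | zero => rfl
    | succ n ih =>
      have e2 : (en a ^ (n + 1)) v = a ((en a ^ n) v) := by rw [pow_succ', Module.End.mul_apply]; rfl
      have e3 : ((en a ^ (r - 1)) ^ (n + 1)) w = ((en a ^ (r - 1)) ^ n) ((en a ^ (r - 1)) w) := by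
        rw [pow_succ, Module.End.mul_apply]
      rw [e2, e3, h.pol1]
      exact ih v _


/-- everything commuting with `a` commutes with the action -/
theorem Dat.comm (h : Dat Q r a) {b : V ≃ₗ[F] V} (hb : b * a = a * b) (x : Rr F r) (v : V) :
    h.ac x (b v) = b (h.ac x v) := by
  have h1 : ((b.conjAlgEquiv F).toAlgHom.comp h.ac) (rt F r) = h.ac (rt F r) := by
    rw [AlgHom.comp_apply, h.ac_rt]
    ext w
    change b (a (b.symm w)) = a w
    have h2 : b (a (b.symm w)) = a (b (b.symm w)) := LinearEquiv.congr_fun hb (b.symm w)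
    rw [h2, LinearEquiv.apply_symm_apply]
  have h3 := LinearMap.congr_fun (ext_Rr h1 x) (b v)
  have h4 : b (h.ac x (b.symm (b v))) = h.ac x (b v) := h3
  rw [← h4, LinearEquiv.symm_apply_apply]

/-- there is a relevant maximal ideal -/
theorem Dat.exists_max (h : Dat Q r a) (ha : a ≠ 1) :
    ∃ (I : Ideal (Rr F r)) (ε : Rr F r), I.IsMaximal ∧ Idem I ε ∧ rt F r - 1 ∉ I ∧ h.ac ε ≠ 0 := by
  have := finite_Rr (F := F) h.r0
  have := reduced_Rr (F := F) h.rF
  have : IsArtinianRing (Rr F r) := artin_Rr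
  let M : Ideal (Rr F r) :=
    { carrier := {y | h.ac (y * (rt F r - 1)) = 0}
      zero_mem' := by
        change h.ac (0 * (rt F r - 1)) = 0
        rw [zero_mul, map_zero]
      add_mem' := by
        intro y z hy hz
        change h.ac ((y + z) * (rt F r - 1)) = 0
        have hy' : h.ac (y * (rt F r - 1)) = 0 := hy
        have hz' : h.ac (z * (rt F r - 1)) = 0 := hz
        rw [add_mul, map_add, hy', hz', add_zero]
      smul_mem' := by
        intro c y hy
        change h.ac (c * y * (rt F r - 1)) = 0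
        have hy' : h.ac (y * (rt F r - 1)) = 0 := hy
        rw [mul_assoc, map_mul, hy', mul_zero] }
  have hmem : ∀ y, y ∈ M ↔ h.ac (y * (rt F r - 1)) = 0 := fun y => Iff.rfl
  have hM : M ≠ ⊤ := by
    intro hM
    have h1 : (1 : Rr F r) ∈ M := by rw [hM]; exact Submodule.mem_top
    rw [hmem, one_mul, map_sub, map_one, h.ac_rt, sub_eq_zero] at h1
    apply ha
    ext v
    exact LinearMap.congr_fun h1 v
  obtain ⟨I, hI, hMI⟩ := Ideal.exists_le_maximal M hM
  obtain ⟨ε, hε⟩ := exists_idem hI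
  have hεI : ε ∉ I := by
    intro h1
    apply hI.ne_top
    rw [Ideal.eq_top_iff_one]
    have := I.sub_mem h1 hε.one
    rwa [sub_sub_cancel] at this
  refine ⟨I, ε, hI, hε, fun h1 => hεI (hMI ?_), fun h1 => hεI (hMI ?_)⟩
  · rw [hmem, mul_comm, hε.mul_zero h1, map_zero]
  · rw [hmem, map_mul, h1, zero_mul]

/-- inverses modulo `I` -/
theorem exists_mul (hr0 : r ≠ 0) (hrF : (r : F) ≠ 0) {I : Ideal (Rr F r)} {ε : Rr F r} (hI : I.IsMaximal)
    (hε : Idem I ε) {y : Rr F r} (hy : y ∉ I) : ∃ b, b * y * ε = ε := by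
  have := finite_Rr (F := F) hr0
  have := reduced_Rr (F := F) hrF
  have : IsArtinianRing (Rr F r) := artin_Rr
  obtain ⟨b, i, hi, h1⟩ := hI.exists_inv hy
  refine ⟨b, ?_⟩
  have h2 := hε.mul_zero hi
  have h3 : b * y = 1 - i := by rw [← h1]; ring
  rw [h3, sub_mul, one_mul, h2, sub_zero]

/-- packing -/
theorem Dat.pack (h : Dat Q r a) [FiniteDimensional F V] (hG : Good Q) {n : ℕ} (hn : Odd n) {I : Ideal (Rr F r)}
    {ε η x : Rr F r} (hI : I.IsMaximal) (hε : Idem I ε) (hac : h.ac ε ≠ 0) (hηε : η * ε = ε)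
    (hηη : η * η = η) (hst : st η = η) (hx : x * st x = 1) (hx1 : x * (1 - η) = 1 - η)
    (hb : ∃ b, η = (1 - rt F r) * b) (hxn : x ^ n = 1) (hord : ∀ k, x ^ k - 1 ∈ I → n ∣ k) :
    ∃ c : V ≃ₗ[F] V, c ∈ E Q ∧ (∀ v, c v = h.ac x v) ∧ orderOf c = n ∧ LinearMap.range (h.ac η) ≠ ⊥ ∧
      (∀ v ∈ LinearMap.range (h.ac η), c v ∈ LinearMap.range (h.ac η)) ∧
      (∀ v ∈ LinearMap.range (h.ac η), (∀ w ∈ LinearMap.range (h.ac η), polar Q v w = 0) → v = 0) ∧
      (∀ v, (∀ w ∈ LinearMap.range (h.ac η), polar Q v w = 0) → c v = v) := by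
  have hst' : ∀ y : Rr F r, st (st y) = y := st_st h.r0
  have hmul : ∀ (y z : Rr F r) (v : V), h.ac (y * z) v = h.ac y (h.ac z v) := by
    intro y z v
    rw [map_mul, Module.End.mul_apply]
  let c : V ≃ₗ[F] V := LinearEquiv.ofLinearMap (h.ac x) (h.ac (st x))
    (LinearMap.ext fun v => by
      rw [LinearMap.comp_apply, ← hmul, hx, map_one]
      rfl)
    (LinearMap.ext fun v => by
      rw [LinearMap.comp_apply, ← hmul, mul_comm, hx, map_one]
      rfl)
  have hc : ∀ v, c v = h.ac x v := fun v => rfl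
  have hcpow : ∀ k v, (c ^ k) v = h.ac (x ^ k) v := by
    intro k
    induction k with
    | zero => intro v; rw [pow_zero, pow_zero, map_one]; rfl
    | succ k ih =>
      intro v
      rw [pow_succ, pow_succ, hmul]
      exact ih (h.ac x v)
  have hpol : ∀ v w, polar Q (c v) (c w) = polar Q v w := by
    intro v w
    rw [hc, hc, h.adj, ← hmul, mul_comm, hx, map_one]
    rfl
  have hadd : ∀ v w, Q (v + w) = Q v + Q w + polar Q v w := by
    intro v w
    simp only [QuadraticMap.polar]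
    ring
  -- the defect
  have hθadd : ∀ v w, Q (c (v + w)) - Q (v + w) = (Q (c v) - Q v) + (Q (c w) - Q w) := by
    intro v w
    rw [map_add, hadd, hadd, hpol]
    ring
  have hθa : ∀ v, Q (c (a v)) - Q (a v) = Q (c v) - Q v := by
    intro v
    rw [hc, h.comm rfl, ← hc, h.iso, h.iso]
  have hθ1 : ∀ v, Q (c (v - a v)) - Q (v - a v) = 0 := by
    intro v
    have h1 := hθadd (v - a v) (a v)
    rw [sub_add_cancel, hθa] at h1
    linear_combination -h1
  have hO : c ∈ O Q := by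
    intro v
    obtain ⟨b, hb⟩ := hb
    have e1 : v = h.ac η v + h.ac (1 - η) v := by
      rw [map_sub, map_one, LinearMap.sub_apply]
      change v = h.ac η v + (v - h.ac η v)
      abel
    have e2 : h.ac η v = h.ac b v - a (h.ac b v) := by
      rw [hb, hmul, map_sub, map_one, h.ac_rt]
      rfl
    have e3 : c (h.ac (1 - η) v) = h.ac (1 - η) v := by
      rw [hc, ← hmul, hx1]
    have h1 := hθadd (h.ac η v) (h.ac (1 - η) v)
    rw [← e1, e3, sub_self, add_zero, e2, hθ1] at h1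
    exact sub_eq_zero.1 h1
  have hcn : c ^ n = 1 := by
    ext v
    rw [hcpow, hxn, map_one]
    rfl
  have hrng : ∀ v w, (∀ w ∈ LinearMap.range (h.ac η), polar Q v w = 0) → polar Q (h.ac η v) w = 0 := by
    intro v w hv
    rw [h.adj, hst]
    exact hv _ ⟨w, rfl⟩
  have hnd : ∀ v, (∀ w ∈ LinearMap.range (h.ac η), polar Q v w = 0) → h.ac η v = 0 := by
    intro v hv
    exact hG.nondeg _ fun w => hrng v w hv
  refine ⟨c, ?_, hc, ?_, ?_, ?_, ?_, ?_⟩
  · obtain ⟨k, hk⟩ := hn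
    have h1 : c = (c ^ (k + 1)) * (c ^ (k + 1)) := by
      rw [← pow_add]
      have : k + 1 + (k + 1) = n + 1 := by omega
      rw [this, pow_succ, hcn, one_mul]
    rw [h1]
    exact sq_mem_E hG (Subgroup.pow_mem _ hO _)
  · apply Nat.dvd_antisymm (orderOf_dvd_of_pow_eq_one hcn)
    apply hord
    by_contra hI'
    obtain ⟨b, hb⟩ := exists_mul h.r0 h.rF hI hε hI'
    apply hac
    rw [← hb, map_mul, map_mul]
    have h2 : h.ac (x ^ orderOf c - 1) = 0 := by
      ext v
      rw [map_sub, map_one, LinearMap.sub_apply, ← hcpow, pow_orderOf_eq_one]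
      change v - v = 0
      exact sub_self v
    rw [h2, mul_zero, zero_mul]
  · intro h1
    rw [LinearMap.range_eq_bot] at h1
    apply hac
    rw [← hηε, map_mul, h1, zero_mul]
  · rintro _ ⟨v, rfl⟩
    refine ⟨h.ac x v, ?_⟩
    rw [hc, ← hmul, ← hmul, mul_comm]
  · rintro _ ⟨v, rfl⟩ hv
    have h1 := hnd _ hv
    rw [← hmul, hηη] at h1
    exact h1
  · intro v hv
    have h1 := hnd v hv
    have e1 : v = h.ac η v + h.ac (1 - η) v := by
      rw [map_sub, map_one, LinearMap.sub_apply]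
      change v = h.ac η v + (v - h.ac η v)
      abel
    rw [h1, zero_add] at e1
    rw [e1, hc, ← hmul, hx1]


/-- the first alternative for one `n` -/
def Con (Q : QuadraticForm F V) (a : V ≃ₗ[F] V) (n : ℕ) : Prop :=
  ∃ c ∈ E Q, ∃ (τ : F) (W : Submodule F V), W ≠ ⊥ ∧ orderOf c = n ∧ (∀ b : V ≃ₗ[F] V, b * a = a * b → c * b = b * c) ∧
    (∀ v ∈ W, c v ∈ W) ∧ (∀ v ∈ W, c (c v) + v = τ • c v) ∧
    (∀ v ∈ W, (∀ w ∈ W, polar Q v w = 0) → v = 0) ∧ (∀ v, (∀ w ∈ W, polar Q v w = 0) → c v = v)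

theorem Dat.con (h : Dat Q r a) [FiniteDimensional F V] (hG : Good Q) {n : ℕ} (hn : Odd n) {I : Ideal (Rr F r)}
    {ε η x : Rr F r} (hI : I.IsMaximal) (hε : Idem I ε) (hac : h.ac ε ≠ 0) (hηε : η * ε = ε)
    (hηη : η * η = η) (hst : st η = η) (hx : x * st x = 1) (hx1 : x * (1 - η) = 1 - η)
    (hb : ∃ b, η = (1 - rt F r) * b) (hxn : x ^ n = 1) (hord : ∀ k, x ^ k - 1 ∈ I → n ∣ k) {τ : F}
    (hτ : (x * x + 1 - algebraMap F (Rr F r) τ * x) * η = 0) : Con Q a n := by
  obtain ⟨c, hcE, hc, ho, hW, hcW, h1, h2⟩ := h.pack hG hn hI hε hac hηε hηη hst hx hx1 hb hxn hord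
  refine ⟨c, hcE, τ, _, hW, ho, fun b hb => ?_, hcW, ?_, h1, h2⟩
  · ext v
    change c (b v) = b (c v)
    rw [hc, hc, h.comm hb]
  · rintro _ ⟨v, rfl⟩
    have h3 : h.ac ((x * x + 1 - algebraMap F (Rr F r) τ * x) * η) v = 0 := by rw [hτ, map_zero]; rfl
    simp only [map_mul, map_sub, map_add, map_mul, map_mul, map_one, AlgHom.commutes] at h3
    have h4 : h.ac x (h.ac x (h.ac η v)) + h.ac η v - τ • h.ac x (h.ac η v) = 0 := h3
    rw [hc, hc]
    exact sub_eq_zero.1 h4

theorem st_surj (hr0 : r ≠ 0) : Function.Surjective (st : Rr F r →ₐ[F] Rr F r) := fun x => ⟨st x, st_st hr0 x⟩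

theorem comap_comap_st (hr0 : r ≠ 0) (I : Ideal (Rr F r)) :
    (I.comap (st : Rr F r →ₐ[F] Rr F r)).comap (st : Rr F r →ₐ[F] Rr F r) = I := by
  ext x
  rw [Ideal.mem_comap, Ideal.mem_comap, st_st hr0]

theorem idem_st (hr0 : r ≠ 0) {I : Ideal (Rr F r)} {ε : Rr F r} (hε : Idem I ε) :
    Idem (I.comap (st : Rr F r →ₐ[F] Rr F r)) (st ε) := by
  constructor
  · rw [Ideal.mem_comap, map_sub, st_st hr0, map_one]
    exact hε.one
  · intro J hJ hne
    have h1 : (J.comap (st : Rr F r →ₐ[F] Rr F r)).IsMaximal := Ideal.comap_isMaximal_of_surjective _ (st_surj hr0)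
    have h2 : J.comap (st : Rr F r →ₐ[F] Rr F r) ≠ I := by
      intro h2
      apply hne
      rw [← h2, comap_comap_st hr0]
    have h3 := hε.mem _ h1 h2
    rwa [Ideal.mem_comap] at h3

theorem orderOf_of {K : Type*} [Field K] [Algebra F K] {I : Ideal (Rr F r)} {π : Rr F r →ₐ[F] K}
    (hπ : ∀ y, π y = 0 ↔ y ∈ I) {x : Rr F r} (k : ℕ) (hx : x ^ k - 1 ∈ I) : orderOf (π x) ∣ k := by
  apply orderOf_dvd_of_pow_eq_one
  rw [← hπ, map_sub, map_pow, map_one, sub_eq_zero] at hx
  exact hx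

/-- the residue field -/
theorem exists_K.{u} {F : Type u} [Field F] (hr0 : r ≠ 0) {I : Ideal (Rr F r)} (hI : I.IsMaximal) :
    ∃ (K : Type u) (_ : Field K) (_ : Algebra F K) (_ : Module.Finite F K) (π : Rr F r →ₐ[F] K),
      Function.Surjective π ∧ (∀ y, π y = 0 ↔ y ∈ I) ∧
        (I.comap (st : Rr F r →ₐ[F] Rr F r) = I → ∃ σ : K →ₐ[F] K, ∀ y, σ (π y) = π (st y)) := by
  have := finite_Rr (F := F) hr0
  refine ⟨Rr F r ⧸ I, Ideal.Quotient.field I, inferInstance, inferInstance, Ideal.Quotient.mkₐ F I,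
    Ideal.Quotient.mkₐ_surjective F I, fun y => Ideal.Quotient.eq_zero_iff_mem, fun h => ?_⟩
  exact ⟨Ideal.quotientMapₐ I st (le_of_eq h.symm), fun y => rfl⟩

/-- case A: `I` is not self dual -/
theorem Dat.caseA (h : Dat Q r a) [Finite F] [FiniteDimensional F V] (hG : Good Q) {I : Ideal (Rr F r)} {ε : Rr F r}
    (hI : I.IsMaximal) (hε : Idem I ε) (hrI : rt F r - 1 ∉ I) (hac : h.ac ε ≠ 0)
    (hne : I.comap (st : Rr F r →ₐ[F] Rr F r) ≠ I) {n : ℕ} (hn : n ∣ Nat.card F - 1) (hodd : Odd n) : Con Q a n := by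
  have := finite_Rr (F := F) h.r0
  have := reduced_Rr (F := F) h.rF
  have : IsArtinianRing (Rr F r) := artin_Rr
  obtain ⟨z, hz⟩ := exists_order hn
  have hz0 : z ≠ 0 := by
    rintro rfl
    have h4 : ¬ IsOfFinOrder (0 : F) := by
      rw [isOfFinOrder_iff_pow_eq_one]
      rintro ⟨k, hk, h⟩
      rw [zero_pow hk.ne'] at h
      exact zero_ne_one h
    rw [orderOf_eq_zero h4] at hz
    rw [← hz] at hodd
    exact absurd hodd (by decide)
  have hε' := idem_st h.r0 hε
  set ε' := st ε with hdef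
  have hst1 : st ε' = ε := st_st h.r0 ε
  have h1 : ε * ε = ε := hε.sq
  have h2 : ε' * ε' = ε' := hε'.sq
  have h3 : ε * ε' = 0 := hε.mul_zero_of_ne hI hε' hne
  let A := algebraMap F (Rr F r)
  have hA : A z * A z⁻¹ = 1 := by rw [← map_mul, mul_inv_cancel₀ hz0, map_one]
  have hAn : A z ^ n = 1 := by rw [← map_pow, ← hz, pow_orderOf_eq_one, map_one]
  have hAn' : A z⁻¹ ^ n = 1 := by rw [← map_pow, inv_pow, ← hz, pow_orderOf_eq_one, inv_one, map_one]
  have hstA : ∀ t : F, st (A t) = A t := fun t => AlgHom.commutes _ t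
  have hpow : ∀ k : ℕ, (1 - (ε + ε') + A z * ε + A z⁻¹ * ε') ^ k = 1 - (ε + ε') + A z ^ k * ε + A z⁻¹ ^ k * ε' := by
    intro k
    induction k with
    | zero => rw [pow_zero, pow_zero, pow_zero]; ring
    | succ k ih =>
      rw [pow_succ, ih]
      linear_combination (1 - A z ^ k - A z + A z ^ k * A z) * h1 +
        (1 - A z⁻¹ ^ k - A z⁻¹ + A z⁻¹ ^ k * A z⁻¹) * h2 +
        (2 - A z - A z⁻¹ - A z ^ k - A z⁻¹ ^ k + A z ^ k * A z⁻¹ + A z⁻¹ ^ k * A z) * h3
  obtain ⟨b, hb⟩ := exists_mul h.r0 h.rF hI hε hrI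
  have hb' : st b * (rt F r ^ (r - 1) - 1) * ε' = ε' := by
    have := congrArg (st : Rr F r →ₐ[F] Rr F r) hb
    rw [map_mul, map_mul, map_sub, st_rt, map_one] at this
    exact this
  have hrt := rt_mul (F := F) h.r0
  obtain ⟨K, _, _, _, π, hπs, hπ, -⟩ := exists_K (F := F) h.r0 hI
  refine h.con hG hodd (η := ε + ε') (x := 1 - (ε + ε') + A z * ε + A z⁻¹ * ε') (τ := z + z⁻¹) hI hε hac ?_ ?_ ?_ ?_ ?_ ?_ ?_ ?_
    ?_
  · linear_combination h1 + h3
  · linear_combination h1 + h2 + 2 * h3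
  · rw [map_add, hst1, ← hdef, add_comm]
  · simp only [map_add st (1 - (ε + ε') + A z * ε) (A z⁻¹ * ε'), map_add st (1 - (ε + ε')) (A z * ε), map_sub st 1 (ε + ε'), map_one st, map_add st ε ε', map_mul st (A z) ε, map_mul st (A z⁻¹) ε', hstA, hstA, hst1, ← hdef]
    linear_combination (A z - 1) * (A z⁻¹ - 1) * (h1 + h2) + ((A z - 1) ^ 2 + (A z⁻¹ - 1) ^ 2) * h3 +
      (ε + ε') * hA
  · linear_combination (- A z + 1) * h1 + (- A z⁻¹ + 1) * h2 + (2 - A z - A z⁻¹) * h3
  · refine ⟨- (b * ε) + rt F r ^ (r - 1) * st b * ε', ?_⟩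
    linear_combination - hb - hb' + st b * ε' * hrt
  · rw [hpow, hAn, hAn']
    ring
  · intro k hk
    have h5 := orderOf_of hπ k hk
    have h6 : π (1 - (ε + ε') + A z * ε + A z⁻¹ * ε') = algebraMap F K z := by
      have h7 : π ε = 1 := by
        have h8 := (hπ _).2 hε.one
        rw [map_sub, map_one, sub_eq_zero] at h8
        exact h8
      have h9 : π ε' = 0 := (hπ _).2 (hε'.mem I hI (Ne.symm hne))
      rw [map_add, map_add, map_sub, map_one, map_add, map_mul, map_mul, h7, h9, AlgHom.commutes, AlgHom.commutes]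
      ring
    rw [h6] at h5
    have h7 : orderOf (algebraMap F K z) = orderOf z :=
      orderOf_injective (algebraMap F K : F →* K) (algebraMap F K).injective z
    rwa [h7, hz] at h5
  · have e : algebraMap F (Rr F r) (z + z⁻¹) = A z + A z⁻¹ := map_add _ _ _
    rw [e]
    have k1 : (1 - (ε + ε') + A z * ε + A z⁻¹ * ε') * (ε + ε') = A z * ε + A z⁻¹ * ε' := by
      linear_combination (A z - 1) * h1 + (A z⁻¹ - 1) * h2 + (A z + A z⁻¹ - 2) * h3
    have k2 : (1 - (ε + ε') + A z * ε + A z⁻¹ * ε') * (A z * ε + A z⁻¹ * ε') = A z ^ 2 * ε + A z⁻¹ ^ 2 * ε' := by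
      linear_combination A z * (A z - 1) * h1 + A z⁻¹ * (A z⁻¹ - 1) * h2 +
        (A z * (A z⁻¹ - 1) + A z⁻¹ * (A z - 1)) * h3
    linear_combination (1 - (ε + ε') + A z * ε + A z⁻¹ * ε') * k1 + k2 - (A z + A z⁻¹) * k1 - (ε + ε') * hA


theorem pi_one {K : Type*} [Field K] [Algebra F K] {I : Ideal (Rr F r)} {ε : Rr F r} (hε : Idem I ε)
    {π : Rr F r →ₐ[F] K} (hπ : ∀ y, π y = 0 ↔ y ∈ I) : π ε = 1 := by
  have h8 := (hπ _).2 hε.one
  rw [map_sub, map_one, sub_eq_zero] at h8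
  exact h8

/-- case B: the element of `R` -/
theorem caseB (hr0 : r ≠ 0) (hrF : (r : F) ≠ 0) {K : Type*} [Field K] [Algebra F K] {I : Ideal (Rr F r)} {ε : Rr F r}
    (hε : Idem I ε) (hstε : st ε = ε) {π : Rr F r →ₐ[F] K} (hπs : Function.Surjective π)
    (hπ : ∀ y, π y = 0 ↔ y ∈ I) {σ : K →ₐ[F] K} (hσ : ∀ y, σ (π y) = π (st y)) {z : K} {n : ℕ}
    (hz : orderOf z = n) (hzσ : z * σ z = 1) :
    ∃ x : Rr F r, x * st x = 1 ∧ x * (1 - ε) = 1 - ε ∧ x ^ n = 1 ∧ (∀ k, x ^ k - 1 ∈ I → n ∣ k) ∧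
      ∀ t : F, z * z + 1 = algebraMap F K t * z → (x * x + 1 - algebraMap F (Rr F r) t * x) * ε = 0 := by
  have := finite_Rr (F := F) hr0
  have := reduced_Rr (F := F) hrF
  have : IsArtinianRing (Rr F r) := artin_Rr
  obtain ⟨y, hy⟩ := hπs z
  have hzero : ∀ w, π w = 0 → w * ε = 0 := fun w hw => hε.mul_zero ((hπ _).1 hw)
  have h1 : ε * ε = ε := hε.sq
  have hpow : ∀ k : ℕ, (1 - ε + y * ε) ^ k = 1 - ε + y ^ k * ε := by
    intro k
    induction k with
    | zero => rw [pow_zero, pow_zero]; ring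
    | succ k ih =>
      rw [pow_succ, ih]
      linear_combination (y ^ k - 1) * (y - 1) * h1
  have hpi := pi_one hε hπ
  refine ⟨1 - ε + y * ε, ?_, ?_, ?_, ?_, ?_⟩
  · rw [map_add st, map_sub st, map_one, map_mul st, hstε]
    have h2 := hzero (y * st y - 1) (by rw [map_sub, map_mul, map_one, ← hσ, hy, hzσ, sub_self])
    linear_combination (y - 1) * (st y - 1) * h1 + h2
  · linear_combination (1 - y) * h1
  · rw [hpow]
    have h2 := hzero (y ^ n - 1) (by rw [map_sub, map_pow, map_one, hy, ← hz, pow_orderOf_eq_one, sub_self])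
    linear_combination h2
  · intro k hk
    have h5 := orderOf_of hπ k hk
    have h6 : π (1 - ε + y * ε) = z := by
      rw [map_add, map_sub, map_one, map_mul, hpi, hy]
      ring
    rwa [h6, hz] at h5
  · intro t ht
    have h2 := hzero (y * y + 1 - algebraMap F (Rr F r) t * y) (by
      rw [map_sub, map_add, map_mul, map_mul, map_one, AlgHom.commutes, hy, ht, sub_self])
    have k1 : (1 - ε + y * ε) * ε = y * ε := by linear_combination (y - 1) * h1
    linear_combination (1 - ε + y * ε + y - algebraMap F (Rr F r) t) * k1 + h2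

/-- the dimension of the residue field -/
theorem Dat.finrank_le (h : Dat Q r a) [FiniteDimensional F V] {K : Type*} [Field K] [Algebra F K] {I : Ideal (Rr F r)}
    {ε : Rr F r} (hI : I.IsMaximal) (hε : Idem I ε) (hac : h.ac ε ≠ 0) {π : Rr F r →ₐ[F] K}
    (hπs : Function.Surjective π) (hπ : ∀ y, π y = 0 ↔ y ∈ I) :
    ∃ w : V, (∀ y, h.ac y w = 0 ↔ π y = 0) ∧ finrank F K ≤ finrank F V ∧
      (finrank F K = finrank F V → ∀ v, ∃ y, h.ac y w = v) := by
  have := finite_Rr (F := F) h.r0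
  have := reduced_Rr (F := F) h.rF
  have : IsArtinianRing (Rr F r) := artin_Rr
  have hmul : ∀ (y z : Rr F r) (v : V), h.ac (y * z) v = h.ac y (h.ac z v) := by
    intro y z v
    rw [map_mul, Module.End.mul_apply]
  obtain ⟨v₀, hv₀⟩ : ∃ v, h.ac ε v ≠ 0 := by
    by_contra hcon
    push Not at hcon
    exact hac (LinearMap.ext hcon)
  let φ : Rr F r →ₗ[F] V := (LinearMap.applyₗ (h.ac ε v₀)).comp h.ac.toLinearMap
  have hφ : ∀ y, φ y = h.ac y (h.ac ε v₀) := fun y => rfl
  have hker : ∀ y, h.ac y (h.ac ε v₀) = 0 ↔ π y = 0 := by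
    intro y
    rw [hπ]
    constructor
    · intro h1
      by_contra h2
      obtain ⟨b, hb⟩ := exists_mul h.r0 h.rF hI hε h2
      apply hv₀
      rw [← hb, mul_assoc, hmul, hmul, h1, map_zero]
    · intro h1
      rw [← hmul, hε.mul_zero h1, map_zero]
      rfl
  have hk2 : LinearMap.ker φ = LinearMap.ker π.toLinearMap := by
    ext y
    rw [LinearMap.mem_ker, LinearMap.mem_ker, hφ, hker]
    rfl
  have e1 := φ.finrank_range_add_finrank_ker
  have e2 := π.toLinearMap.finrank_range_add_finrank_ker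
  have e3 : LinearMap.range π.toLinearMap = ⊤ := LinearMap.range_eq_top.2 hπs
  rw [e3, finrank_top, ← hk2] at e2
  have e4 : finrank F (LinearMap.range φ) = finrank F K := by omega
  refine ⟨h.ac ε v₀, hker, ?_, ?_⟩
  · rw [← e4]
    exact Submodule.finrank_le _
  · intro h5 v
    have h6 : LinearMap.range φ = ⊤ := Submodule.eq_top_of_finrank_eq (by rw [e4, h5])
    have h7 : v ∈ LinearMap.range φ := by rw [h6]; exact Submodule.mem_top
    obtain ⟨y, hy⟩ := h7
    exact ⟨y, hy⟩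

/-- `V` is not a cyclic module -/
theorem Dat.not_cyclic (h : Dat Q r a) {K : Type*} [Field K] [Algebra F K]
    {π : Rr F r →ₐ[F] K} {w : V} (hw : ∀ y, h.ac y w = 0 ↔ π y = 0) (hs : ∀ v, ∃ y, h.ac y w = v)
    {p : ℕ} [CharP F p] (hp : p.Prime) {u : V ≃ₗ[F] V} (hup : u ^ p = 1) (hua : u * a = a * u) : u = 1 := by
  have hmul : ∀ (y z : Rr F r) (v : V), h.ac (y * z) v = h.ac y (h.ac z v) := by
    intro y z v
    rw [map_mul, Module.End.mul_apply]
  obtain ⟨y₀, hy₀⟩ := hs (u w)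
  have hu : ∀ v, u v = h.ac y₀ v := by
    intro v
    obtain ⟨y, rfl⟩ := hs v
    rw [← h.comm hua, ← hy₀, ← hmul, ← hmul, mul_comm]
  have hpow : ∀ k v, (u ^ k) v = h.ac (y₀ ^ k) v := by
    intro k
    induction k with
    | zero => intro v; rw [pow_zero, pow_zero, map_one]; rfl
    | succ k ih =>
      intro v
      rw [pow_succ, pow_succ, hmul, ← hu]
      exact ih (u v)
  have := Fact.mk hp
  have : CharP K p := charP_of_injective_algebraMap (algebraMap F K).injective p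
  have h1 : π (y₀ ^ p - 1) = 0 := by
    rw [← hw, map_sub, map_one, LinearMap.sub_apply, ← hpow, hup]
    exact sub_self _
  have h2 : π (y₀ - 1) = 0 := by
    rw [map_sub, map_pow, map_one, sub_eq_zero] at h1
    have h3 : frobenius K p (π y₀) = frobenius K p 1 := by
      rw [frobenius_def, h1, map_one]
    rw [map_sub, map_one, sub_eq_zero]
    exact frobenius_inj K p h3
  have h3 : u w = w := by
    rw [← hw, map_sub, map_one, LinearMap.sub_apply, ← hu] at h2
    exact sub_eq_zero.1 h2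
  ext v
  obtain ⟨y, rfl⟩ := hs v
  rw [← h.comm hua, h3]
  rfl

/-- the main theorem for one element -/
theorem Dat.main (h : Dat Q r a) [Finite F] [FiniteDimensional F V] (hG : Good Q) (hdim : finrank F V = 8)
    (hro : Odd r) (ha : a ≠ 1) {p : ℕ} [CharP F p] (hp : p.Prime) {u : V ≃ₗ[F] V} (hup : u ^ p = 1) (hu1 : u ≠ 1)
    (hua : u * a = a * u) :
    (∃ n0, (n0 = Nat.card F - 1 ∨ n0 = Nat.card F + 1) ∧ ∀ n, n ∣ n0 → Odd n → Con Q a n) ∨
      (∀ l, l.Prime → l ≠ 2 → l ∣ Nat.card F ^ 2 + 1 → ∃ c ∈ E Q, orderOf c = l ∧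
        ∀ b : V ≃ₗ[F] V, b * a = a * b → c * b = b * c) := by
  classical
  have hr0 := h.r0
  have := finite_Rr (F := F) h.r0
  have := reduced_Rr (F := F) h.rF
  have : IsArtinianRing (Rr F r) := artin_Rr
  obtain ⟨I, ε, hI, hε, hrI, hac⟩ := h.exists_max ha
  by_cases hne : I.comap (st : Rr F r →ₐ[F] Rr F r) = I
  swap
  · left
    exact ⟨_, Or.inl rfl, fun n hn hodd => h.caseA hG hI hε hrI hac hne hn hodd⟩
  have hstε : st ε = ε := by
    have h1 := idem_st hr0 hε
    rw [hne] at h1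
    exact h1.uniq hε
  obtain ⟨K, _, _, _, π, hπs, hπ, hσ⟩ := exists_K (F := F) h.r0 hI
  obtain ⟨σ, hσ⟩ := hσ hne
  have : Finite K := Module.finite_of_finite F
  have := Fintype.ofFinite F
  have hσ2 : ∀ x, σ (σ x) = x := by
    intro x
    obtain ⟨y, rfl⟩ := hπs x
    rw [hσ, hσ, st_st hr0]
  have hσ1 : ∃ x, σ x ≠ x := by
    refine ⟨π (rt F r), fun h1 => ?_⟩
    apply hrI
    rw [hσ, st_rt, map_pow] at h1
    have h2 : π (rt F r) ^ r = 1 := by rw [← map_pow, rt_pow, map_one]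
    have h3 : π (rt F r) ^ 2 = 1 := by
      have h4 : π (rt F r) ^ (r - 1) * π (rt F r) = 1 := by
        rw [← pow_succ, Nat.sub_add_cancel (Nat.one_le_iff_ne_zero.2 hr0), h2]
      rw [h1] at h4
      rw [pow_two, h4]
    obtain ⟨k, hk⟩ := hro
    have h5 : π (rt F r) ^ (2 * k + 1) = 1 := by
      rw [← hk]
      exact h2
    rw [pow_succ, pow_mul, h3, one_pow, one_mul] at h5
    rw [← hπ, map_sub, map_one, h5, sub_self]
  obtain ⟨m, hm0, hm, hσm⟩ := inv_frob hσ2 hσ1
  obtain ⟨w, hw, hle, hcy⟩ := h.finrank_le hI hε hac hπs hπ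
  have hb : ∃ b, ε = (1 - rt F r) * b := by
    obtain ⟨b, hb⟩ := exists_mul h.r0 h.rF hI hε hrI
    exact ⟨- (b * ε), by linear_combination -hb⟩
  have hcase : Odd m ∨ m = 2 ∨ m = 4 := by
    have h5 : m = 1 ∨ m = 2 ∨ m = 3 ∨ m = 4 := by omega
    rcases h5 with rfl | rfl | rfl | rfl
    · left; decide
    · right; left; rfl
    · left; decide
    · right; right; rfl
  rcases hcase with hodd | rfl | rfl
  · left
    refine ⟨_, Or.inr rfl, fun n hn hno => ?_⟩
    rw [Nat.card_eq_fintype_card] at hn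
    obtain ⟨z, hz, hz1, τ, hτ⟩ := exists_norm_one hm hodd hn
    obtain ⟨x, hx1, hx2, hx3, hx4, hx5⟩ := caseB h.r0 h.rF hε hstε hπs hπ hσ hz (by rw [hσm]; exact hz1)
    exact h.con hG hno hI hε hac hε.sq hε.sq hstε hx1 hx2 hb hx3 hx4 (hx5 τ hτ)
  · right
    intro l hl hl2 hlq
    have hcard : Nat.card K = Fintype.card F ^ (2 * 2) := by
      rw [Module.natCard_eq_pow_finrank (K := F), hm, Nat.card_eq_fintype_card]
    rw [Nat.card_eq_fintype_card] at hlq
    have h6 : l ∣ Nat.card K - 1 := by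
      rw [hcard]
      have h3 : Fintype.card F ^ (2 * 2) - 1 = (Fintype.card F ^ 2 + 1) * (Fintype.card F ^ 2 - 1) := by
        rw [pow_mul', ← Nat.sq_sub_sq, one_pow]
      rw [h3]
      exact hlq.trans (dvd_mul_right _ _)
    obtain ⟨z, hz⟩ := exists_order h6
    obtain ⟨x, hx1, hx2, hx3, hx4, -⟩ := caseB h.r0 h.rF hε hstε hπs hπ hσ hz (by
      rw [hσm, ← pow_succ']
      exact orderOf_dvd_iff_pow_eq_one.1 (by rw [hz]; exact hlq))
    obtain ⟨c, hcE, hc, ho, -⟩ := h.pack hG (hl.odd_of_ne_two hl2) hI hε hac hε.sq hε.sq hstε hx1 hx2 hb hx3 hx4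
    refine ⟨c, hcE, ho, fun b hb => ?_⟩
    ext v
    change c (b v) = b (c v)
    rw [hc, hc, h.comm hb]
  · exfalso
    exact hu1 (h.not_cyclic hw (hcy (by rw [hm, hdim])) hp hup hua)

end Cfsg.Agent.H579.RC.Mix

namespace Cfsg.Agent.H864.RC

open Module QuadraticMap MulAction
open Cfsg.Agent.LieClassical.OrthCore Cfsg.Agent.LieClassical.OrthTrans
open Cfsg.Agent.LieClassical.OrthSimple Cfsg.Agent.ClassicalGeometry.OrthSemi
open Cfsg.Agent.ClassicalGeometry.OrthAut1 Cfsg.Agent.H106.RC Cfsg.Agent.H93.RC Cfsg.Agent.H566.RC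
open Cfsg.Agent.LieClassical.QuadForms Cfsg.Agent.ClassicalGeometry.TrialityOct
open Cfsg.Agent.ClassicalGeometry.Triality Cfsg.Agent.ClassicalGeometry.TrialitySpaces
open Cfsg.Agent.H198.TriBase Cfsg.Agent.H198.TriAut Cfsg.Agent.H198.TriDia
open Cfsg.Agent.H206.Balance hiding Good
open Cfsg.Agent.H198.TwComp Cfsg.Agent.H198

variable {F : Type} [Field F]

/-- MIX-LIN -/
theorem mix_lin [Finite F] {ι : Type} [Finite ι] {p : ℕ} [CharP F p] (hp : p.Prime) (hG : Good (plusForm 4 F))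
    {g : ι → (V8 F ≃ₗ[F] V8 F)} (hg : ∀ i, g i ∈ E (plusForm 4 F)) {r : ι → ℕ}
    (hr : ∀ i, (r i).Prime) (hrp : ∀ i, r i ≠ p) (hr2 : ∀ i, r i ≠ 2) (hpow : ∀ i, g i ^ r i = 1)
    (hc : ∀ i j, g i * g j = g j * g i) (i₁ : ι) (hi₁ : g i₁ ≠ 1) {u : V8 F ≃ₗ[F] V8 F} (hu : u ∈ E (plusForm 4 F))
    (hup : u ^ p = 1) (hu1 : u ≠ 1) (huc : ∀ i, u * g i = g i * u) :
    (∃ n0, (n0 = Nat.card F - 1 ∨ n0 = Nat.card F + 1) ∧ ∀ n, n ∣ n0 → Odd n → ∃ c ∈ E (plusForm 4 F),
      ∃ (τ : F) (W : Submodule F (V8 F)), W ≠ ⊥ ∧ orderOf c = n ∧ (∀ i, c * g i = g i * c) ∧ c * u = u * c ∧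
      (∀ v ∈ W, c v ∈ W) ∧ (∀ v ∈ W, c (c v) + v = τ • c v) ∧
      (∀ v ∈ W, (∀ w ∈ W, polar (plusForm 4 F) v w = 0) → v = 0) ∧
      (∀ v, (∀ w ∈ W, polar (plusForm 4 F) v w = 0) → c v = v)) ∨
    (∀ l, l.Prime → l ≠ 2 → l ∣ Nat.card F ^ 2 + 1 → ∃ c ∈ E (plusForm 4 F), c ^ l = 1 ∧ c ≠ 1 ∧
      (∀ i, c * g i = g i * c) ∧ c * u = u * c) := by
  have hdim : finrank F (V8 F) = 8 := by simp
  have hD : H579.RC.Mix.Dat (plusForm 4 F) (r i₁) (g i₁) := by
    refine ⟨(hr i₁).ne_zero, fun h => ?_, fun v => E_le_O (hg i₁) v, hpow i₁⟩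
    have h1 := (CharP.cast_eq_zero_iff F p (r i₁)).1 h
    exact hrp i₁ ((Nat.prime_dvd_prime_iff_eq hp (hr i₁)).1 h1).symm
  rcases hD.main hG hdim ((hr i₁).odd_of_ne_two (hr2 i₁)) hi₁ hp hup hu1 (huc i₁) with ⟨n0, hn0, h⟩ | h
  · left
    refine ⟨n0, hn0, fun n hn hodd => ?_⟩
    obtain ⟨c, hcE, τ, W, hW, ho, hcc, h1, h2, h3, h4⟩ := h n hn hodd
    exact ⟨c, hcE, τ, W, hW, ho, fun i => hcc _ (hc i i₁), hcc _ (huc i₁), h1, h2, h3, h4⟩
  · right
    intro l hl hl2 hlq
    obtain ⟨c, hcE, ho, hcc⟩ := h l hl hl2 hlq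
    refine ⟨c, hcE, ?_, ?_, fun i => hcc _ (hc i i₁), hcc _ (huc i₁)⟩
    · rw [← ho, pow_orderOf_eq_one]
    · rintro rfl
      rw [orderOf_one] at ho
      exact hl.one_lt.ne ho

end Cfsg.Agent.H864.RC
end

-- part: H531/RC/Det
section
/-!
# S3510, triality type (iii), box (MIX-M), part (d): the multiplicities (helper531)

`c ∈ AutD (fG s)` of prime order `l ∣ q₀² ± q₀ + 1`, `l ≠ 3`, commuting with `u ∈ AutD (fG s)` of order `p`:
either `u` is a long root element or `c` has the multiplicities `3, 3, 1, 1`.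

* `claim1`, `det_K` : the multiplicities over the algebraic closure (machine of `H256/RC`);
* `exN_rank`, `eig_rank`, `ker_qf` : descent;
* `det_mult` : the statement over the finite field.
-/

set_option autoImplicit false
set_option linter.unusedSectionVars false
set_option linter.unusedVariables false

namespace Cfsg.Agent.H531.RC

open Module QuadraticMap Cfsg.Agent.LieClassical.OrthCore Cfsg.Agent.LieClassical.OrthTrans Cfsg.Agent.H256.RC

universe u v

variable {K : Type u} {V : Type v} [Field K] [AddCommGroup V] [Module K V]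
variable {Q : QuadraticForm K V} {φ : K ≃+* K} {g : V → V} {m : V → V → V} {l n : ℕ} {N U : V →ₗ[K] V}
variable {a : ZMod l} {e : ZMod l → K}

/-! ### unipotent maps commuting with `N` -/

section uni

/-- `U` preserves the eigenspaces -/
theorem U_mem (hUN : U * N = N * U) {c : K} {x : V} (hx : x ∈ Ei N c) : U x ∈ Ei N c := by
  rw [mem_Ei] at *
  have h1 : (U * N) x = (N * U) x := by rw [hUN]
  change U (N x) = N (U x) at h1
  rw [← h1, hx, map_smul]

theorem D_mem (hUN : U * N = N * U) {c : K} {x : V} (hx : x ∈ Ei N c) : (U - 1) x ∈ Ei N c := by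
  rw [LinearMap.sub_apply]
  exact (Ei N c).sub_mem (U_mem hUN hx) hx

/-- the restriction of `U - 1` -/
def Dr (hUN : U * N = N * U) (c : K) : Ei N c →ₗ[K] Ei N c :=
  (U - 1).restrict (p := Ei N c) (q := Ei N c) (fun _ hx => D_mem hUN hx)

theorem Dr_apply (hUN : U * N = N * U) {c : K} (x : Ei N c) : ((Dr hUN c x : Ei N c) : V) = (U - 1) (x : V) := rfl

theorem Dr_nil {k : ℕ} (hUN : U * N = N * U) (hU : (U - 1) ^ k = 0) (c : K) : Dr hUN c ^ k = 0 := by
  apply LinearMap.ext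
  intro x
  apply Subtype.ext
  have h1 : ∀ (k : ℕ) (x : Ei N c), (((Dr hUN c ^ k) x : Ei N c) : V) = ((U - 1) ^ k) (x : V) := by
    intro k
    induction k with
    | zero => intro x; rfl
    | succ k ih =>
      intro x
      rw [pow_succ, pow_succ, Module.End.mul_apply, Module.End.mul_apply, ih, Dr_apply]
  rw [h1, hU]
  rfl

theorem nil_pow_finrank {W : Type*} [AddCommGroup W] [Module K W] [FiniteDimensional K W] {f : W →ₗ[K] W} {k : ℕ}
    (hf : f ^ k = 0) : f ^ finrank K W = 0 := by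
  have h1 : f.charpoly = Polynomial.X ^ finrank K W := IsNilpotent.charpoly_eq_X_pow_finrank (φ := f) ⟨k, hf⟩
  have h2 := LinearMap.aeval_self_charpoly f
  rwa [h1, map_pow, Polynomial.aeval_X] at h2

end uni

/-! ### sums of dimensions -/

theorem no2 : ∀ a : ZMod 2, a * a + a + 1 ≠ 0 := by decide

section sums

variable [Fact l.Prime]

theorem two_ne (ha : a * a + a + 1 = 0) : (2 : ZMod l) ≠ 0 := by
  intro h
  have h2 : l = 2 := (Nat.prime_dvd_prime_iff_eq Fact.out Nat.prime_two).1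
    (zmod_num (l := l) (n := 2) (by exact_mod_cast h))
  subst h2
  exact no2 a ha

theorem three_ne (hl3 : l ≠ 3) : (3 : ZMod l) ≠ 0 := by
  intro h
  exact hl3 ((Nat.prime_dvd_prime_iff_eq Fact.out Nat.prime_three).1
    (zmod_num (l := l) (n := 3) (by exact_mod_cast h)))

private theorem nself (h2 : (2 : ZMod l) ≠ 0) {x : ZMod l} (hx : x ≠ 0) : x ≠ -x := fun h =>
  mul_ne_zero h2 hx (by rw [two_mul]; exact add_eq_zero_iff_eq_neg.2 h)

private theorem nn1 {x y : ZMod l} (h : x ≠ -y) : -x ≠ y := fun e => h (neg_eq_iff_eq_neg.1 e)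

private theorem nn2 {x y : ZMod l} (h : x ≠ y) : -x ≠ -y := fun e => h (neg_injective e)

private theorem nn0 {x : ZMod l} (h : x ≠ 0) : 0 ≠ -x := (neg_ne_zero.2 h).symm

private theorem nc1 {i c : ZMod l} (hi : i ≠ 0) (hc1 : c ≠ 1) : i ≠ c * i := fun h =>
  hc1 (mul_right_cancel₀ hi (h.symm.trans (one_mul i).symm))

private theorem nc2 {i c : ZMod l} (hi : i ≠ 0) (hc2 : c ≠ -1) : i ≠ -(c * i) := fun h =>
  hc2 (mul_right_cancel₀ hi ((neg_eq_iff_eq_neg.1 h.symm).trans (neg_one_mul i).symm))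

theorem sum5 {d : ZMod l → ℕ} (hd : ∀ i, d (-i) = d i) (h8 : ∑ i, d i = 8) (h2 : (2 : ZMod l) ≠ 0) {i c : ZMod l}
    (hi : i ≠ 0) (hc0 : c ≠ 0) (hc1 : c ≠ 1) (hc2 : c ≠ -1) : d 0 + 2 * d i + 2 * d (c * i) ≤ 8 := by
  have n2 : c * i ≠ 0 := mul_ne_zero hc0 hi
  have hs : ∑ x ∈ ({0, i, -i, c * i, -(c * i)} : Finset (ZMod l)), d x =
      d 0 + (d i + (d (-i) + (d (c * i) + d (-(c * i))))) := by
    rw [Finset.sum_insert, Finset.sum_insert, Finset.sum_insert, Finset.sum_insert, Finset.sum_singleton]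
    all_goals simp only [Finset.mem_insert, Finset.mem_singleton, not_or]
    exacts [nself h2 n2, ⟨nn1 (nc2 hi hc2), nn2 (nc1 hi hc1)⟩, ⟨nself h2 hi, nc1 hi hc1, nc2 hi hc2⟩,
      ⟨hi.symm, nn0 hi, n2.symm, nn0 n2⟩]
  have h9 := Finset.sum_le_univ_sum_of_nonneg (s := ({0, i, -i, c * i, -(c * i)} : Finset (ZMod l))) (f := d)
    (fun _ => Nat.zero_le _)
  rw [hs, h8, hd, hd] at h9
  omega

theorem sum7 {d : ZMod l → ℕ} (hd : ∀ i, d (-i) = d i) (h8 : ∑ i, d i = 8) (h2 : (2 : ZMod l) ≠ 0) {i c j : ZMod l}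
    (hi : i ≠ 0) (hc0 : c ≠ 0) (hc1 : c ≠ 1) (hc2 : c ≠ -1) (hj0 : j ≠ 0) (hj1 : j ≠ i) (hj2 : j ≠ -i)
    (hj3 : j ≠ c * i) (hj4 : j ≠ -(c * i)) : d 0 + 2 * d i + 2 * d (c * i) + 2 * d j ≤ 8 := by
  have n2 : c * i ≠ 0 := mul_ne_zero hc0 hi
  have k2 : i ≠ -j := (nn1 hj2).symm
  have k4 : c * i ≠ -j := (nn1 hj4).symm
  have hs : ∑ x ∈ ({0, i, -i, c * i, -(c * i), j, -j} : Finset (ZMod l)), d x =
      d 0 + (d i + (d (-i) + (d (c * i) + (d (-(c * i)) + (d j + d (-j)))))) := by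
    rw [Finset.sum_insert, Finset.sum_insert, Finset.sum_insert, Finset.sum_insert, Finset.sum_insert,
      Finset.sum_insert, Finset.sum_singleton]
    all_goals simp only [Finset.mem_insert, Finset.mem_singleton, not_or]
    exacts [nself h2 hj0, ⟨hj4.symm, nn2 hj3.symm⟩, ⟨nself h2 n2, hj3.symm, k4⟩,
      ⟨nn1 (nc2 hi hc2), nn2 (nc1 hi hc1), hj2.symm, nn2 hj1.symm⟩,
      ⟨nself h2 hi, nc1 hi hc1, nc2 hi hc2, hj1.symm, k2⟩,
      ⟨hi.symm, nn0 hi, n2.symm, nn0 n2, hj0.symm, nn0 hj0⟩]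
  have h9 := Finset.sum_le_univ_sum_of_nonneg (s := ({0, i, -i, c * i, -(c * i), j, -j} : Finset (ZMod l))) (f := d)
    (fun _ => Nat.zero_le _)
  rw [hs, h8, hd, hd, hd] at h9
  omega

end sums

/-! ### the weights -/

section main

variable [Fact l.Prime] [FiniteDimensional K V]

omit [Fact l.Prime] in
theorem nontriv {i : ZMod l} (h : dd N e i ≠ 0) : ∃ x ∈ Ei N (e i), x ≠ 0 := by
  have h5 : 0 < finrank K (Ei N (e i)) := Nat.pos_of_ne_zero h
  have : Nontrivial (Ei N (e i)) := Module.finrank_pos_iff.1 h5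
  obtain ⟨u, hu⟩ := exists_ne (0 : Ei N (e i))
  exact ⟨u, u.2, fun h => hu (Subtype.ext h)⟩

omit [Fact l.Prime] in
theorem zero_of {i : ZMod l} (h : dd N e i = 0) {x : V} (hx : x ∈ Ei N (e i)) : x = 0 := by
  have h1 : finrank K (Ei N (e i)) = 0 := h
  rw [Submodule.finrank_eq_zero] at h1
  rw [h1] at hx
  exact (Submodule.mem_bot K).1 hx

variable [IsAlgClosed K]

/-- a weight of multiplicity at least two gives the weight `(2 a + 1) i` -/
theorem claim1 (h : TK Q φ g m) (hQ : Nondeg Q) (he : Wt φ l a e) (hN : Au3 Q g m l N) (ha : a * a + a + 1 = 0)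
    (hl : (l : K) ≠ 0) {i : ZMod l} (h2 : 2 ≤ dd N e i) : dd N e ((2 * a + 1) * i) ≠ 0 := by
  intro h0
  have hb : a * (-1 - a) = 1 := by linear_combination -ha
  have hneg := he.dd_neg hl hN hQ
  have h0' : dd N e (-((2 * a + 1) * i)) = 0 := by rw [hneg, h0]
  have p1 : ∀ x ∈ Ei N (e i), ∀ y ∈ Ei N (e (-i)), m x y = 0 := by
    intro x hx y hy
    have h3 := he.mul_mem h hN hb hx hy
    have h4 : (-1 - a) * i + a * -i = -((2 * a + 1) * i) := by ring
    rw [h4] at h3
    exact zero_of h0' h3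
  have p2 : ∀ x ∈ Ei N (e (-i)), ∀ y ∈ Ei N (e i), m x y = 0 := by
    intro x hx y hy
    have h3 := he.mul_mem h hN hb hx hy
    have h4 : (-1 - a) * -i + a * i = (2 * a + 1) * i := by ring
    rw [h4] at h3
    exact zero_of h0 h3
  obtain ⟨u, hu, hu0⟩ := nontriv (N := N) (e := e) (i := i) (by omega)
  obtain ⟨z, hz, hz0, huz⟩ : ∃ z ∈ Ei N (e (-i)), z ≠ 0 ∧ polar Q u z = 0 := by
    let f : Ei N (e (-i)) →ₗ[K] K := (polarBilin Q u).comp (Submodule.subtype _)
    have h5 := LinearMap.finrank_range_add_finrank_ker f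
    have h6 : finrank K (LinearMap.range f) ≤ 1 := by
      have := Submodule.finrank_le (LinearMap.range f)
      rwa [Module.finrank_self] at this
    have h7 : finrank K (Ei N (e (-i))) = dd N e i := hneg i
    have h8 : 0 < finrank K (LinearMap.ker f) := by omega
    have : Nontrivial (LinearMap.ker f) := Module.finrank_pos_iff.1 h8
    obtain ⟨z, hz⟩ := exists_ne (0 : LinearMap.ker f)
    exact ⟨((z : Ei N (e (-i))) : V), (z : Ei N (e (-i))).2, fun h => hz (Subtype.ext (Subtype.ext h)),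
      LinearMap.mem_ker.1 z.2⟩
  have ht' : m u u ∈ Ei N (e (-i)) := by
    have h3 := he.mul_mem h hN hb hu hu
    have h4 : (-1 - a) * i + a * i = -i := by ring
    rwa [h4] at h3
  have ht0 : m u u ≠ 0 := by
    intro h9
    obtain ⟨z', hz', huz'⟩ := he.exists_dual hl hN hQ hu hu0
    exact hu0 (h.eq_zero_of' huz' h9 (p1 u hu z' hz'))
  have hg : g z ∈ Ei N (e (-i)) := by
    have h3 := he.g_mem h hN hb hz
    have h4 : (-1 - a) * ((-1 - a) * ((-1 - a) * -i)) = -i := by linear_combination (a + 2) * i * ha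
    rwa [h4] at h3
  have h10 := h.lin1 u u z
  rw [huz, map_zero, map_zero, zero_smul, p2 z hz u hu, h.zero_left, add_zero] at h10
  obtain ⟨x, hx, hgx⟩ := he.exists_dual hl hN hQ hg (fun h11 => hz0 (h.g_inj hQ h11))
  rw [neg_neg] at hx
  exact ht0 (h.eq_zero_of' hgx h10 (p2 _ ht' x hx))

omit [Fact l.Prime] in
/-- `U` is trivial if it is trivial on the weight spaces -/
theorem U_one (he : Wt φ l a e) (hl : (l : K) ≠ 0) (hN : Au3 Q g m l N)
    (hall : ∀ i, ∀ x ∈ Ei N (e i), U x = x) : U = 1 := by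
  apply LinearMap.ext
  intro x
  have hx : x ∈ ⨆ j, Ei N (e j) := by rw [he.iSup_eq hl hN.pow]; exact Submodule.mem_top
  induction hx using Submodule.iSup_induction' with
  | mem j y hy => exact hall j y hy
  | zero => rw [map_zero, map_zero]
  | add y z _ _ h1 h2 => rw [map_add, h1, h2, map_add]

omit [Fact l.Prime] [IsAlgClosed K] in
/-- `U` is trivial on the weight spaces of dimension one -/
theorem U_line (hUN : U * N = N * U) {k : ℕ} (hUk : (U - 1) ^ k = 0) {i : ZMod l} (hi : dd N e i ≤ 1) {x : V}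
    (hx : x ∈ Ei N (e i)) : U x = x := by
  have h1 := nil_pow_finrank (Dr_nil hUN hUk (e i))
  have h2 : Dr hUN (e i) ^ 1 = 0 := by
    have h3 : finrank K (Ei N (e i)) ≤ 1 := hi
    rw [← Nat.sub_add_cancel h3, pow_add, h1, mul_zero]
  rw [pow_one] at h2
  have h4 := congrArg (fun f : Ei N (e i) →ₗ[K] Ei N (e i) => ((f ⟨x, hx⟩ : Ei N (e i)) : V)) h2
  beta_reduce at h4
  rw [Dr_apply] at h4
  exact sub_eq_zero.1 h4

omit [Fact l.Prime] [IsAlgClosed K] in
theorem U_sq (hUN : U * N = N * U) {k : ℕ} (hUk : (U - 1) ^ k = 0) {i : ZMod l} (hi : dd N e i = 2) {x : V}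
    (hx : x ∈ Ei N (e i)) : (U - 1) ((U - 1) x) = 0 := by
  have h1 := nil_pow_finrank (Dr_nil hUN hUk (e i))
  have h3 : finrank K (Ei N (e i)) = 2 := hi
  rw [h3, pow_two] at h1
  have h4 := congrArg (fun f : Ei N (e i) →ₗ[K] Ei N (e i) => ((f ⟨x, hx⟩ : Ei N (e i)) : V)) h1
  beta_reduce at h4
  rw [Module.End.mul_apply, Dr_apply, Dr_apply] at h4
  exact h4

end main

section long

variable [FiniteDimensional K V] [IsAlgClosed K]

theorem U_polar (hUi : ∀ x, Q (U x) = Q x) (x y : V) : polar Q (U x) (U y) = polar Q x y := by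
  simp only [QuadraticMap.polar]
  rw [← map_add, hUi, hUi, hUi]

/-- `U` trivial on `E_i` and isometric: trivial on `E_(-i)` -/
theorem U_dual (he : Wt φ l a e) (hl : (l : K) ≠ 0) (hN : Au3 Q g m l N) (hQ : Nondeg Q)
    (hUi : ∀ x, Q (U x) = Q x) (hUN : U * N = N * U) {i : ZMod l} (h1 : ∀ x ∈ Ei N (e i), U x = x) {y : V}
    (hy : y ∈ Ei N (e (-i))) : U y = y := by
  have h2 : U y - y ∈ Ei N (e (-i)) := D_mem hUN hy
  rw [← sub_eq_zero]
  refine he.perp hl hN hQ h2 (fun x hx => ?_)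
  rw [neg_neg] at hx
  have h3 := U_polar hUi y x
  rw [h1 x hx] at h3
  rw [polar_sub_left, h3, sub_self]

theorem long_dim (he : Wt φ l a e) (hUN : U * N = N * U) {k : ℕ} (hUk : (U - 1) ^ k = 0) {i : ZMod l}
    (h2 : dd N e i = 2) (h1 : ¬ ∀ x ∈ Ei N (e i), U x = x) : finrank K ((Ei N (e i)).map (U - 1)) = 1 := by
  have h3 : finrank K (Ei N (e i)) = 2 := h2
  let f : Ei N (e i) →ₗ[K] V := (U - 1).comp (Submodule.subtype _)
  have h4 : LinearMap.range f = (Ei N (e i)).map (U - 1) := by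
    rw [LinearMap.range_comp, Submodule.range_subtype]
  have h5 := LinearMap.finrank_range_add_finrank_ker f
  rw [h3, h4] at h5
  have h6 : finrank K ((Ei N (e i)).map (U - 1)) ≤ finrank K (LinearMap.ker f) := by
    rw [← Submodule.finrank_map_subtype_eq (Ei N (e i)) (LinearMap.ker f)]
    apply Submodule.finrank_mono
    rintro _ ⟨x, hx, rfl⟩
    refine ⟨⟨(U - 1) x, D_mem hUN hx⟩, ?_, rfl⟩
    exact U_sq hUN hUk h2 hx
  have h7 : finrank K ((Ei N (e i)).map (U - 1)) ≠ 0 := by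
    intro h8
    rw [Submodule.finrank_eq_zero] at h8
    apply h1
    intro x hx
    have h9 : (U - 1) x ∈ (Ei N (e i)).map (U - 1) := ⟨x, hx, rfl⟩
    rw [h8] at h9
    exact sub_eq_zero.1 ((Submodule.mem_bot K).1 h9)
  omega

theorem long_K (he : Wt φ l a e) (hl : (l : K) ≠ 0) (hN : Au3 Q g m l N) (hQ : Nondeg Q)
    (hUi : ∀ x, Q (U x) = Q x) (hUN : U * N = N * U) {k : ℕ} (hUk : (U - 1) ^ k = 0) (hU1 : U ≠ 1) {i : ZMod l}
    (hi : 2 * i ≠ 0) (h2 : dd N e i = 2)
    (hoth : ∀ j, j ≠ i → j ≠ -i → ∀ x ∈ Ei N (e j), U x = x) :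
    finrank K (LinearMap.range (U - 1)) = 2 ∧ ∀ v, Q (U v - v) = 0 := by
  have h2' : dd N e (-i) = 2 := by rw [he.dd_neg hl hN hQ, h2]
  have hi' : 2 * -i ≠ 0 := by
    intro h
    exact hi (by linear_combination -h)
  have n1 : ¬ ∀ x ∈ Ei N (e i), U x = x := by
    intro h3
    apply hU1
    apply U_one he hl hN
    intro j x hx
    by_cases hj : j = i
    · subst hj; exact h3 x hx
    by_cases hj' : j = -i
    · subst hj'; exact U_dual he hl hN hQ hUi hUN h3 hx
    exact hoth j hj hj' x hx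
  have n2 : ¬ ∀ x ∈ Ei N (e (-i)), U x = x := by
    intro h3
    apply n1
    intro x hx
    have hx' : x ∈ Ei N (e (- -i)) := by rwa [neg_neg]
    exact U_dual he hl hN hQ hUi hUN h3 hx'
  have d1 := long_dim he hUN hUk h2 n1
  have d2 := long_dim he hUN hUk h2' n2
  set A := (Ei N (e i)).map (U - 1) with hA
  set B := (Ei N (e (-i))).map (U - 1) with hB
  have hAle : ∀ x ∈ A, x ∈ Ei N (e i) := by
    rintro _ ⟨x, hx, rfl⟩
    exact D_mem hUN hx
  have hBle : ∀ x ∈ B, x ∈ Ei N (e (-i)) := by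
    rintro _ ⟨x, hx, rfl⟩
    exact D_mem hUN hx
  have hAB : A ⊓ B = ⊥ := by
    rw [eq_bot_iff]
    intro x hx
    have e1 := mem_Ei.1 (hAle x hx.1)
    have e2 := mem_Ei.1 (hBle x hx.2)
    rw [e1, ← sub_eq_zero, ← sub_smul] at e2
    refine (Submodule.mem_bot K).2 ((smul_eq_zero.1 e2).resolve_left (sub_ne_zero.2 fun h => ?_))
    have h3 := he.inj h
    exact hi (by linear_combination h3)
  have hr : ∀ v, (U - 1) v ∈ A ⊔ B := by
    intro v
    have hv : v ∈ ⨆ j, Ei N (e j) := by rw [he.iSup_eq hl hN.pow]; exact Submodule.mem_top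
    induction hv using Submodule.iSup_induction' with
    | mem j y hy =>
      by_cases hj : j = i
      · subst hj
        exact (le_sup_left : A ≤ A ⊔ B) ⟨y, hy, rfl⟩
      by_cases hj' : j = -i
      · subst hj'
        exact (le_sup_right : B ≤ A ⊔ B) ⟨y, hy, rfl⟩
      have h3 : (U - 1) y = 0 := by
        rw [LinearMap.sub_apply, hoth j hj hj' y hy]
        exact sub_self y
      rw [h3]
      exact Submodule.zero_mem _
    | zero => rw [map_zero]; exact Submodule.zero_mem _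
    | add y z _ _ h1 h2 => rw [map_add]; exact Submodule.add_mem _ h1 h2
  have hrange : LinearMap.range (U - 1) = A ⊔ B := by
    apply le_antisymm
    · rintro _ ⟨v, rfl⟩
      exact hr v
    · refine sup_le ?_ ?_
      · rintro _ ⟨x, -, rfl⟩
        exact ⟨x, rfl⟩
      · rintro _ ⟨x, -, rfl⟩
        exact ⟨x, rfl⟩
  refine ⟨?_, ?_⟩
  · have h3 := Submodule.finrank_sup_add_finrank_inf_eq A B
    rw [hAB, finrank_bot, d1, d2] at h3
    rw [hrange]
    exact h3
  · intro v
    obtain ⟨x, hx, y, hy, hxy⟩ := Submodule.mem_sup.1 (hr v)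
    have hxs : Q x = 0 := he.sing hN hi (hAle x hx)
    have hys : Q y = 0 := he.sing hN hi' (hBle y hy)
    obtain ⟨x', hx', rfl⟩ := hx
    obtain ⟨y', hy', rfl⟩ := hy
    have e1 : U y' - y' = (U - 1) y' := rfl
    have e2 : U x' - x' = (U - 1) x' := rfl
    have h3 : polar Q (U x') (U (U y')) = polar Q x' (U y') := U_polar hUi _ _
    have h4 : U (U y') = (2 : K) • U y' - y' := by
      have h5 := U_sq hUN hUk h2' hy'
      have h6 : (U - 1) ((U - 1) y') = U (U y' - y') - (U y' - y') := rfl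
      rw [h6, map_sub] at h5
      rw [two_smul, ← sub_eq_zero, ← h5]
      abel
    have h7 : polar Q (U x') (U y') = polar Q x' y' := U_polar hUi _ _
    rw [h4, sub_eq_add_neg, polar_add_right, polar_smul_right, polar_neg_right, h7, smul_eq_mul] at h3
    have h8 : polar Q ((U - 1) x') ((U - 1) y') = 0 := by
      rw [← e1, ← e2, sub_eq_add_neg, sub_eq_add_neg, polar_add_left, polar_add_right, polar_add_right, polar_neg_left,
        polar_neg_left, polar_neg_right, h7]
      rw [polar_neg_right] 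
      linear_combination h3
    have h9 : U v - v = (U - 1) x' + (U - 1) y' := by
      rw [hxy]; rfl
    rw [h9, Q_add, hxs, hys, h8, add_zero, add_zero]

end long

/-! ### the multiplicities over the algebraic closure -/

section det

variable [Fact l.Prime] [FiniteDimensional K V] [IsAlgClosed K]

theorem det_K (h : TK Q φ g m) (hQ : Nondeg Q) (h8 : finrank K V = 8) (he : Wt φ l a e) (hN : Au3 Q g m l N)
    (ha : a * a + a + 1 = 0) (hl3 : l ≠ 3) (hl : (l : K) ≠ 0) (hN1 : N ≠ 1)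
    (hUm : ∀ x y, U (m x y) = m (U x) (U y)) (hUi : ∀ x, Q (U x) = Q x) (hUN : U * N = N * U) {k : ℕ}
    (hUk : (U - 1) ^ k = 0) (hU1 : U ≠ 1) :
    dd N e 0 = 0 ∧ ((finrank K (LinearMap.range (U - 1)) = 2 ∧ ∀ v, Q (U v - v) = 0) ∨
    ∃ i : ZMod l, i ≠ 0 ∧ dd N e i = 3 ∧ dd N e ((2 * a + 1) * i) = 1) := by
  have hb : a * (-1 - a) = 1 := by linear_combination -ha
  have h2' := two_ne ha
  have h3' := three_ne hl3
  have ha0 : a ≠ 0 := by
    intro h0
    rw [h0] at ha
    exact one_ne_zero (by linear_combination ha)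
  have ha1 : a ≠ 1 := by
    intro h0
    rw [h0] at ha
    exact h3' (by linear_combination ha)
  have ha2 : a ≠ -1 := by
    intro h0
    rw [h0] at ha
    exact one_ne_zero (by linear_combination ha)
  have hneg := he.dd_neg hl hN hQ
  have hsum : ∑ i, dd N e i = 8 := by rw [he.sum_dd hl hN.pow, h8]
  have h0 : dd N e 0 = 0 := by
    by_contra h00
    obtain ⟨k0, hk0, hkQ⟩ : ∃ k0 ∈ Ei N (e 0), Q k0 ≠ 0 := by
      by_contra hcon
      push Not at hcon
      obtain ⟨x, hx, hx0⟩ := nontriv h00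
      apply hx0
      refine he.perp hl hN hQ hx (fun y hy => ?_)
      rw [neg_zero] at hy
      rw [QuadraticMap.polar, hcon _ (Submodule.add_mem _ hx hy), hcon _ hx, hcon _ hy, sub_zero, sub_zero]
    have hle : ∀ i, dd N e i ≤ dd N e (a * i) := by
      intro i
      exact semi_finrank_le (K := K) (ψ := φ)
        (fun w : Ei N (e i) => (⟨m k0 w, by
            have h3 := he.mul_mem h hN hb hk0 w.2
            rwa [mul_zero, zero_add] at h3⟩ : Ei N (e (a * i))))
        (fun x y => Subtype.ext (h.add_right _ _ _)) (fun k x => Subtype.ext (h.smul_right _ _ _))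
        (fun w hw => by
          have h4 : m k0 w = 0 := congrArg Subtype.val hw
          have h5 := h.left k0 w
          rw [h4, h.zero_left] at h5
          apply Subtype.ext
          refine (smul_eq_zero.1 h5.symm).resolve_left (fun h6 => hkQ ?_)
          exact φ.symm.injective (φ.symm.injective (by rw [h6, map_zero, map_zero])))
    have heq := inv_of_le ha0 hle
    have hone : ∀ i, i ≠ 0 → dd N e i ≤ 1 := by
      intro i hi
      have h9 := sum5 hneg hsum h2' hi ha0 ha1 ha2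
      rw [heq] at h9
      omega
    have htriv : ∀ i, i ≠ 0 → ∀ x ∈ Ei N (e i), U x = x := fun i hi x hx => U_line hUN hUk (hone i hi) hx
    obtain ⟨i, hi, hi'⟩ : ∃ i, i ≠ 0 ∧ dd N e i ≠ 0 := by
      by_contra hcon
      push Not at hcon
      apply hN1
      apply U_one (U := N) he hl hN
      intro i x hx
      by_cases hi : i = 0
      · subst hi
        rw [mem_Ei, he.zero, one_smul] at hx
        exact hx
      · rw [zero_of (hcon i hi) hx, map_zero]
    obtain ⟨x, hx, hx0⟩ := nontriv hi'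
    obtain ⟨y, hy, hxy⟩ := he.exists_dual hl hN hQ hx hx0
    apply hU1
    apply U_one he hl hN
    intro j z hz
    by_cases hj : j = 0
    · subst hj
      have key : ∀ (j : ZMod l) (w : V), j ≠ 0 → w ∈ Ei N (e j) → m (U z - z) w = 0 := by
        intro j w hj hw
        have h3 := he.mul_mem h hN hb hz hw
        rw [mul_zero, zero_add] at h3
        have h4 := htriv _ (mul_ne_zero ha0 hj) _ h3
        rw [hUm, htriv j hj w hw] at h4
        rw [h.sub_left, h4, sub_self]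
      exact sub_eq_zero.1 (h.eq_zero_of' hxy (key i x hi hx) (key (-i) y (neg_ne_zero.2 hi) hy))
    · exact htriv j hj z hz
  refine ⟨h0, ?_⟩
  obtain ⟨i, hi2⟩ : ∃ i, 2 ≤ dd N e i := by
    by_contra hcon
    push Not at hcon
    exact hU1 (U_one he hl hN (fun i x hx => U_line hUN hUk (Nat.lt_succ_iff.1 (hcon i)) hx))
  have hi0 : i ≠ 0 := by
    intro h1
    rw [h1] at hi2
    omega
  have hcdef : 2 * a + 1 = 2 * a + 1 := rfl
  generalize hc : 2 * a + 1 = c at hcdef ⊢
  have hc2 : c * c = -3 := by rw [← hc]; linear_combination 4 * ha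
  have hc0 : c ≠ 0 := by
    intro h1
    rw [h1] at hc2
    exact h3' (by linear_combination hc2)
  have h4' : (4 : ZMod l) ≠ 0 := by
    intro h1
    exact mul_ne_zero h2' h2' (by linear_combination h1)
  have h12' : (12 : ZMod l) ≠ 0 := by
    intro h1
    exact mul_ne_zero h4' h3' (by linear_combination h1)
  have hc1 : c ≠ 1 := by
    intro h1
    rw [h1] at hc2
    exact h4' (by linear_combination hc2)
  have hcm : c ≠ -1 := by
    intro h1
    rw [h1] at hc2
    exact h4' (by linear_combination hc2)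
  have hd1 : dd N e (c * i) ≠ 0 := by
    rw [← hc]
    exact claim1 h hQ he hN ha hl hi2
  have h5 := sum5 hneg hsum h2' hi0 hc0 hc1 hcm
  by_cases h3 : dd N e i = 3
  · right
    exact ⟨i, hi0, h3, by omega⟩
  have hi3 : dd N e i = 2 := by omega
  have hci : dd N e (c * i) = 1 := by
    by_contra hcon
    have hci2 : 2 ≤ dd N e (c * i) := by omega
    have h6 := claim1 h hQ he hN ha hl hci2
    have h7 : (2 * a + 1) * (c * i) = -3 * i := by rw [hc]; linear_combination i * hc2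
    rw [h7] at h6
    have h8 := sum7 hneg hsum h2' hi0 hc0 hc1 hcm (j := -3 * i) (mul_ne_zero (neg_ne_zero.2 h3') hi0)
      (fun h1 => mul_ne_zero h4' hi0 (by linear_combination -h1))
      (fun h1 => mul_ne_zero h2' hi0 (by linear_combination -h1))
      (fun h1 => mul_ne_zero h12' hi0 (by linear_combination (c - 3) * h1 + i * hc2))
      (fun h1 => mul_ne_zero h12' hi0 (by linear_combination (-c - 3) * h1 + i * hc2))
    omega
  left
  refine long_K he hl hN hQ hUi hUN hUk hU1 (i := i) (mul_ne_zero h2' hi0) hi3 (fun j hj hj' x hx => ?_)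
  refine U_line hUN hUk ?_ hx
  by_contra hcon
  push Not at hcon
  have hj0 : j ≠ 0 := by
    intro h1
    rw [h1] at hcon
    omega
  have hj1 : j ≠ c * i := by
    intro h1
    rw [h1] at hcon
    omega
  have hj2 : j ≠ -(c * i) := by
    intro h1
    rw [h1, hneg] at hcon
    omega
  have h9 := sum7 hneg hsum h2' hi0 hc0 hc1 hcm hj0 hj hj' hj1 hj2
  omega

end det

/-! ### descent to the finite field -/

section desc

open Cfsg.Agent.LieClassical.OrthSimple Cfsg.Agent.ClassicalGeometry.OrthAut1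
  Cfsg.Agent.ClassicalGeometry.OrthSemi Cfsg.Agent.H198.Classes
  Cfsg.Agent.LieClassical.QuadForms Cfsg.Agent.H198.ClassesPlus
  Cfsg.Agent.ClassicalGeometry.TrialityOct Cfsg.Agent.ClassicalGeometry.Triality
  Cfsg.Agent.ClassicalGeometry.TrialitySpaces Cfsg.Agent.H198.TriBase Cfsg.Agent.H198.TriAut
  Cfsg.Agent.H198.TriDia Cfsg.Agent.H198.TriTC Cfsg.Agent.H198.TwComp

section io

variable {F K : Type u} [Field F] [Field K] [Algebra F K]

theorem ext_io {f f' : V8 K →ₗ[K] V8 K} (h : ∀ x : V8 F, f (io K x) = f' (io K x)) : f = f' := by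
  apply LinearMap.ext
  intro v
  refine io_induction (F := F) (P := fun v => f v = f' v) h ?_ ?_ v
  · intro x y hx hy
    rw [map_add, map_add, hx, hy]
  · intro k x hx
    rw [map_smul, map_smul, hx]

theorem io_li {ι : Type*} {b : ι → V8 F} (hb : LinearIndependent F b) :
    LinearIndependent K (fun i => io K (b i)) := by
  rw [linearIndependent_iff'] at hb ⊢
  intro s k hk i hi
  rw [← Module.forall_dual_apply_eq_zero_iff F]
  intro f
  refine hb s (fun j => f (k j)) ?_ i hi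
  funext t
  have h1 := congrFun hk t
  rw [Finset.sum_apply] at h1 ⊢
  have h2 := congrArg f h1
  rw [map_sum] at h2
  refine Eq.trans (Finset.sum_congr rfl fun j _ => ?_) (h2.trans (map_zero f))
  change f (k j) * b j t = f (k j * algebraMap F K (b j t))
  rw [mul_comm (k j), ← Algebra.smul_def, map_smul, smul_eq_mul, mul_comm]

theorem io_le {W : Submodule F (V8 F)} {W' : Submodule K (V8 K)} (h : ∀ x ∈ W, io K x ∈ W') :
    finrank F W ≤ finrank K W' := by
  let b := Module.finBasis F W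
  have h1 : (LinearIndependent F (fun i => (b i : V8 F)) :) :=
    b.linearIndependent.map' W.subtype (Submodule.ker_subtype W)
  have h2 := io_li (K := K) h1
  have h3 : LinearIndependent K (fun i => (⟨io K (b i : V8 F), h _ (b i).2⟩ : W')) :=
    LinearIndependent.of_comp W'.subtype h2
  have h4 := h3.fintype_card_le_finrank
  rwa [Fintype.card_fin] at h4

theorem finrank8 (F : Type u) [Field F] : finrank F (V8 F) = 8 := by
  rw [Module.finrank_fintype_fun_eq_card]
  rfl

theorem exN_rank (f : V8 F →ₗ[F] V8 F) : finrank F (LinearMap.ker f) = finrank K (LinearMap.ker (exN K f)) ∧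
    finrank F (LinearMap.range f) = finrank K (LinearMap.range (exN K f)) := by
  have h1 : finrank F (LinearMap.ker f) ≤ finrank K (LinearMap.ker (exN K f)) := by
    refine io_le fun x hx => ?_
    rw [LinearMap.mem_ker] at hx ⊢
    rw [exN_io, hx]
    exact funext fun _ => map_zero _
  have h2 : finrank F (LinearMap.range f) ≤ finrank K (LinearMap.range (exN K f)) := by
    refine io_le fun x hx => ?_
    obtain ⟨y, rfl⟩ := hx
    exact ⟨io K y, exN_io f y⟩
  have h3 := LinearMap.finrank_range_add_finrank_ker f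
  have h4 := LinearMap.finrank_range_add_finrank_ker (exN K f)
  rw [finrank8] at h3 h4
  omega

end io

theorem mem_range_of_pow {F : Type u} [Field F] [Finite F] {L : Type u} [Field L] [Algebra F L]
    {x : L} (hx : x ^ Nat.card F = x) : ∃ y : F, algebraMap F L y = x := by
  classical
  have := Fintype.ofFinite F
  rw [Nat.card_eq_fintype_card] at hx
  have hne : (Polynomial.X ^ Fintype.card F - Polynomial.X : Polynomial L) ≠ 0 :=
    FiniteField.X_pow_card_sub_X_ne_zero L Fintype.one_lt_card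
  have hsub : (Finset.univ.image (algebraMap F L)) ⊆
      (Polynomial.X ^ Fintype.card F - Polynomial.X : Polynomial L).roots.toFinset := by
    intro y hy
    rw [Finset.mem_image] at hy
    obtain ⟨z, -, rfl⟩ := hy
    rw [Multiset.mem_toFinset, Polynomial.mem_roots hne, Polynomial.IsRoot.def, Polynomial.eval_sub,
      Polynomial.eval_pow, Polynomial.eval_X, ← map_pow, FiniteField.pow_card, sub_self]
  have hcard : (Polynomial.X ^ Fintype.card F - Polynomial.X : Polynomial L).roots.toFinset.card ≤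
      (Finset.univ.image (algebraMap F L)).card := by
    rw [Finset.card_image_of_injective _ (algebraMap F L).injective, Finset.card_univ]
    refine (Multiset.toFinset_card_le _).trans ((Polynomial.card_roots' _).trans ?_)
    rw [FiniteField.X_pow_card_sub_X_natDegree_eq L Fintype.one_lt_card]
  have heq := Finset.eq_of_subset_of_card_le hsub hcard
  have hmem : x ∈ (Polynomial.X ^ Fintype.card F - Polynomial.X : Polynomial L).roots.toFinset := by
    rw [Multiset.mem_toFinset, Polynomial.mem_roots hne, Polynomial.IsRoot.def, Polynomial.eval_sub,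
      Polynomial.eval_pow, Polynomial.eval_X, hx, sub_self]
  rw [← heq, Finset.mem_image] at hmem
  obtain ⟨y, -, hy⟩ := hmem
  exact ⟨y, hy⟩

section phi

variable {F : Type u} [Field F]

theorem lF_ne [Finite F] {q0 : ℕ} (hq : Nat.card F = q0 ^ 3) {l : ℕ} (hl : l.Prime) (hlq : ¬ l ∣ q0) : (l : F) ≠ 0 := by
  intro h4
  have h5 := Fintype.ofFinite F
  obtain ⟨p, hp⟩ := CharP.exists F
  have hppr : p.Prime := (CharP.char_is_prime_or_zero F p).resolve_right
    (fun h0 => CharP.char_ne_zero_of_finite F p h0)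
  have h6 : p ∣ l := (CharP.cast_eq_zero_iff F p l).1 h4
  have h7 : p = l := (Nat.prime_dvd_prime_iff_eq hppr hl).1 h6
  subst h7
  have : Fact p.Prime := ⟨hppr⟩
  obtain ⟨m, -, hm⟩ := FiniteField.card F p
  have h8 : p ∣ Nat.card F := by
    rw [Nat.card_eq_fintype_card, hm]
    exact dvd_pow_self p m.pos.ne'
  rw [hq] at h8
  exact hlq (hppr.dvd_of_dvd_pow h8)

/-- the `q`-Frobenius of the algebraic closure -/
theorem exists_frq (F : Type u) [Field F] [Finite F] :
    ∃ f : AlgebraicClosure F ≃+* AlgebraicClosure F, ∀ x, f x = x ^ Nat.card F := by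
  have h5 := Fintype.ofFinite F
  obtain ⟨p, hp⟩ := CharP.exists F
  have hppr : p.Prime := (CharP.char_is_prime_or_zero F p).resolve_right
    (fun h0 => CharP.char_ne_zero_of_finite F p h0)
  have : Fact p.Prime := ⟨hppr⟩
  obtain ⟨m, -, hm⟩ := FiniteField.card F p
  have : CharP (AlgebraicClosure F) p := charP_of_injective_algebraMap (algebraMap F (AlgebraicClosure F)).injective p
  have : ExpChar (AlgebraicClosure F) p := ExpChar.prime hppr
  refine ⟨iterateFrobeniusEquiv (AlgebraicClosure F) p m, fun x => ?_⟩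
  rw [iterateFrobeniusEquiv_def, Nat.card_eq_fintype_card, hm]

/-- an extension of `s` to the algebraic closure, of order three on the `l`-th roots of unity -/
theorem exists_phi' [Finite F] {s : F ≃+* F} {q0 : ℕ} (hq0 : IsPrimePow q0) (hq : Nat.card F = q0 ^ 3)
    (hs : (∀ a : F, s a = a ^ q0) ∨ ∀ a : F, s a = a ^ (q0 ^ 2)) {l : ℕ} (hl : l.Prime) (hlq : ¬ l ∣ q0)
    (h1 : l ∣ q0 ^ 2 + q0 + 1 ∨ l ∣ q0 ^ 2 - q0 + 1) :
    ∃ (φ : AlgebraicClosure F ≃+* AlgebraicClosure F) (k : ℕ),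
      (∀ a, φ (algebraMap F (AlgebraicClosure F) a) = algebraMap F (AlgebraicClosure F) (s a)) ∧
      (∀ c : AlgebraicClosure F, c ^ l = 1 → φ c = c ^ k) ∧
      (k : ZMod l) * k + k + 1 = 0 := by
  obtain ⟨φ, k, hφ, hk, hka⟩ := exists_phi hq0 hq hs hl hlq
  rcases h1 with h1 | h1
  · have hq2 : (q0 : ZMod l) * q0 + q0 + 1 = 0 := by
      have h4 : ((q0 ^ 2 + q0 + 1 : ℕ) : ZMod l) = 0 := (ZMod.natCast_eq_zero_iff _ _).2 h1
      push_cast at h4
      linear_combination h4
    refine ⟨φ, k, hφ, hk, ?_⟩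
    rcases hka with h | h
    · rw [h]; exact hq2
    · linear_combination (k : ZMod l) ^ 2 * hq2 - ((k : ZMod l) * q0 + 1 + k) * h
  · have hle : q0 ≤ q0 ^ 2 := Nat.le_self_pow two_ne_zero q0
    have hq2 : (q0 : ZMod l) * q0 - q0 + 1 = 0 := by
      have h4 : ((q0 ^ 2 - q0 + 1 : ℕ) : ZMod l) = 0 := (ZMod.natCast_eq_zero_iff _ _).2 h1
      rw [Nat.cast_add, Nat.cast_sub hle, Nat.cast_pow, Nat.cast_one] at h4
      linear_combination h4
    have hkk : (k : ZMod l) * k - k + 1 = 0 := by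
      rcases hka with h | h
      · rw [h]; exact hq2
      · linear_combination (k : ZMod l) ^ 2 * hq2 - ((k : ZMod l) * q0 + 1 - k) * h
    obtain ⟨f, hf⟩ := exists_frq F
    refine ⟨φ.trans f, k * Nat.card F, fun a => ?_, fun c hc => ?_, ?_⟩
    · rw [RingEquiv.trans_apply, hφ, hf, ← map_pow]
      congr 1
      have := Fintype.ofFinite F
      rw [Nat.card_eq_fintype_card]
      exact FiniteField.pow_card _
    · rw [RingEquiv.trans_apply, hk c hc, hf, ← pow_mul]
    · rw [Nat.cast_mul, hq, Nat.cast_pow]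
      have h5 : (k : ZMod l) * (q0 : ZMod l) ^ 3 = -k := by linear_combination (k : ZMod l) * ((q0 : ZMod l) + 1) * hq2
      rw [h5]
      linear_combination hkk

end phi

section wt

variable {K : Type u} [Field K] {φ : K ≃+* K} {l : ℕ} {a : ZMod l} {e : ZMod l → K}

theorem e_pow (he : Wt φ l a e) (i : ZMod l) (n : ℕ) : e ((n : ZMod l) * i) = e i ^ n := by
  induction n with
  | zero => rw [Nat.cast_zero, zero_mul, he.zero, pow_zero]
  | succ n ih => rw [Nat.cast_succ, add_mul, one_mul, he.add, ih, pow_succ]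

theorem e_pow_l (he : Wt φ l a e) (i : ZMod l) : e i ^ l = 1 := by
  rw [← e_pow he, ZMod.natCast_self, zero_mul, he.zero]

theorem e_neg (he : Wt φ l a e) (i : ZMod l) : e (-i) = (e i)⁻¹ := by
  have h1 := he.add i (-i)
  rw [add_neg_cancel, he.zero] at h1
  exact eq_inv_of_mul_eq_one_right h1.symm

end wt

/-! ### the theorem -/

section fin

/-- `c + c⁻¹ = τ` -/
def qf {K V : Type*} [Field K] [AddCommGroup V] [Module K V] (N : V →ₗ[K] V) (t : K) : V →ₗ[K] V :=
  N * N - t • N + 1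

theorem qf_apply {K V : Type*} [Field K] [AddCommGroup V] [Module K V] (N : V →ₗ[K] V) (t : K) (v : V) :
    qf N t v = N (N v) - t • N v + v := rfl

theorem ker_qf {K V : Type*} [Field K] [AddCommGroup V] [Module K V] [FiniteDimensional K V] {N : V →ₗ[K] V}
    {x y : K} (hxy : x * y = 1) (hne : x ≠ y) :
    finrank K (LinearMap.ker (qf N (x + y))) = finrank K (Ei N x) + finrank K (Ei N y) := by
  have h1 : LinearMap.ker (qf N (x + y)) = Ei N x ⊔ Ei N y := by
    apply le_antisymm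
    · intro v hv
      rw [LinearMap.mem_ker, qf_apply] at hv
      have hd : x - y ≠ 0 := sub_ne_zero.2 hne
      have e1 : v = (x - y)⁻¹ • (N v - y • v) + (-(x - y)⁻¹) • (N v - x • v) := by
        have h2 : (x - y)⁻¹ • (N v - y • v) + (-(x - y)⁻¹) • (N v - x • v) = ((x - y)⁻¹ * (x - y)) • v := by
          module
        rw [h2, inv_mul_cancel₀ hd, one_smul]
      have hv' : N (N v) = (x + y) • N v - v := by
        rw [← sub_eq_zero, ← hv]
        abel
      rw [e1]
      refine Submodule.add_mem _ (Submodule.smul_mem _ _ ((le_sup_left : Ei N x ≤ Ei N x ⊔ Ei N y) ?_))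
        (Submodule.smul_mem _ _ ((le_sup_right : Ei N y ≤ Ei N x ⊔ Ei N y) ?_))
      · rw [mem_Ei, map_sub, map_smul, hv', smul_sub, smul_smul, hxy, one_smul]
        module
      · rw [mem_Ei, map_sub, map_smul, hv', smul_sub, smul_smul, mul_comm y x, hxy, one_smul]
        module
    · refine sup_le ?_ ?_
      · intro v hv
        rw [mem_Ei] at hv
        rw [LinearMap.mem_ker, qf_apply, hv, map_smul, hv, smul_smul, smul_smul]
        have h2 : (x * x) • v - ((x + y) * x) • v + v = (1 - x * y) • v := by module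
        rw [h2, hxy, sub_self, zero_smul]
      · intro v hv
        rw [mem_Ei] at hv
        rw [LinearMap.mem_ker, qf_apply, hv, map_smul, hv, smul_smul, smul_smul]
        have h2 : (y * y) • v - ((x + y) * y) • v + v = (1 - x * y) • v := by module
        rw [h2, hxy, sub_self, zero_smul]
  have h2 : Ei N x ⊓ Ei N y = ⊥ := by
    rw [eq_bot_iff]
    intro v hv
    have e1 := mem_Ei.1 hv.1
    have e2 := mem_Ei.1 hv.2
    rw [e1, ← sub_eq_zero, ← sub_smul] at e2
    exact (Submodule.mem_bot K).2 ((smul_eq_zero.1 e2).resolve_left (sub_ne_zero.2 hne))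
  have h3 := Submodule.finrank_sup_add_finrank_inf_eq (Ei N x) (Ei N y)
  rw [h2, finrank_bot, add_zero] at h3
  rw [h1, h3]

variable {F : Type u} [Field F] {K : Type u} [Field K] [Algebra F K]

theorem exN_eig (c : V8 F →ₗ[F] V8 F) (b : F) :
    exN K (c - b • 1) = exN K c - (algebraMap F K b) • 1 := by
  refine ext_io (F := F) fun x => ?_
  have e1 : (c - b • (1 : V8 F →ₗ[F] V8 F)) x = c x + (-b) • x := by
    rw [LinearMap.sub_apply, neg_smul, ← sub_eq_add_neg]; rfl
  have e2 : (exN K c - (algebraMap F K b) • (1 : V8 K →ₗ[K] V8 K)) (io K x) =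
      exN K c (io K x) - (algebraMap F K b) • io K x := rfl
  rw [exN_io, e1, e2, exN_io, io_add, io_smul, map_neg, neg_smul, ← sub_eq_add_neg]

theorem exN_qf (c : V8 F →ₗ[F] V8 F) (b : F) : exN K (qf c b) = qf (exN K c) (algebraMap F K b) := by
  refine ext_io (F := F) fun x => ?_
  have e1 : qf c b x = c (c x) + (-b) • c x + x := by
    rw [qf_apply, neg_smul, ← sub_eq_add_neg]
  have e2 : qf (exN K c) (algebraMap F K b) (io K x) =
      exN K c (exN K c (io K x)) - (algebraMap F K b) • exN K c (io K x) + io K x := rfl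
  rw [exN_io, e1, e2, exN_io, exN_io, io_add, io_add, io_smul, map_neg, neg_smul, ← sub_eq_add_neg]

theorem eig_rank (c : V8 F →ₗ[F] V8 F) (b : F) :
    finrank F (Module.End.eigenspace c b) = finrank K (Ei (exN K c) (algebraMap F K b)) := by
  have h1 := (exN_rank (K := K) (c - b • (1 : V8 F →ₗ[F] V8 F))).1
  rw [exN_eig] at h1
  rw [Module.End.eigenspace_def, Ei, Module.End.eigenspace_def]
  exact h1

/-- the descent for `l ∣ q - 1` -/
theorem fin_plus {c : V8 F →ₗ[F] V8 F} {φ : K ≃+* K} {l : ℕ} {a : ZMod l} {e : ZMod l → K} (he : Wt φ l a e)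
    (hF : ∀ i, ∃ b : F, algebraMap F K b = e i) (hneg : ∀ i, dd (exN K c) e (-i) = dd (exN K c) e i) {i j : ZMod l}
    (hi : 2 * i ≠ 0) (hj : 2 * j ≠ 0) (hij : i ≠ j) (hij' : i + j ≠ 0) (h3 : dd (exN K c) e i = 3)
    (h1 : dd (exN K c) e j = 1) :
    ∃ a b : F, a ≠ 0 ∧ b ≠ 0 ∧ a * a ≠ 1 ∧ b * b ≠ 1 ∧ a ≠ b ∧ a * b ≠ 1 ∧
      finrank F (Module.End.eigenspace c a) = 3 ∧ finrank F (Module.End.eigenspace c a⁻¹) = 3 ∧
      finrank F (Module.End.eigenspace c b) = 1 ∧ finrank F (Module.End.eigenspace c b⁻¹) = 1 := by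
  obtain ⟨x, hx⟩ := hF i
  obtain ⟨y, hy⟩ := hF j
  have hx' : algebraMap F K x⁻¹ = e (-i) := by rw [map_inv₀, hx, e_neg he]
  have hy' : algebraMap F K y⁻¹ = e (-j) := by rw [map_inv₀, hy, e_neg he]
  have key : ∀ (k k' : ZMod l), k + k' ≠ 0 → e k * e k' ≠ 1 := by
    intro k k' hk h
    apply hk
    apply he.inj
    rw [he.add, h, he.zero]
  refine ⟨x, y, ?_, ?_, ?_, ?_, ?_, ?_, ?_, ?_, ?_, ?_⟩
  · rintro rfl
    exact he.ne i (by rw [← hx, map_zero])
  · rintro rfl
    exact he.ne j (by rw [← hy, map_zero])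
  · intro h
    apply key i i (by rwa [← two_mul])
    rw [← hx, ← map_mul, h, map_one]
  · intro h
    apply key j j (by rwa [← two_mul])
    rw [← hy, ← map_mul, h, map_one]
  · intro h
    apply hij
    apply he.inj
    rw [← hx, ← hy, h]
  · intro h
    apply key i j hij'
    rw [← hx, ← hy, ← map_mul, h, map_one]
  · rw [eig_rank (K := K), hx]; exact h3
  · rw [eig_rank (K := K), hx']; exact (hneg i).trans h3
  · rw [eig_rank (K := K), hy]; exact h1
  · rw [eig_rank (K := K), hy']; exact (hneg j).trans h1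

/-- the descent for `l ∣ q + 1` -/
theorem fin_minus {c : V8 F →ₗ[F] V8 F} {φ : K ≃+* K} {l : ℕ} {a : ZMod l} {e : ZMod l → K} (he : Wt φ l a e)
    (hF : ∀ i, ∃ b : F, algebraMap F K b = e i + e (-i)) (hneg : ∀ i, dd (exN K c) e (-i) = dd (exN K c) e i)
    {i j : ZMod l}
    (hi : 2 * i ≠ 0) (hj : 2 * j ≠ 0) (hij : i ≠ j) (hij' : i + j ≠ 0) (h3 : dd (exN K c) e i = 3)
    (h1 : dd (exN K c) e j = 1) (hiso : ∀ x, plusForm 4 F (c x) = plusForm 4 F x) (hinj : ∀ x, c x = 0 → x = 0)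
    (hno : ∀ v, ∀ a : F, c v = a • v → v = 0) :
    ∃ (W : Submodule F (V8 F)) (τ τ' : F), finrank F W = 6 ∧
      (∀ v ∈ W, (∀ w ∈ W, polar (plusForm 4 F) v w = 0) → v = 0) ∧ τ ≠ τ' ∧ (∀ v ∈ W, c (c v) + v = τ • c v) ∧
      (∀ v, (∀ w ∈ W, polar (plusForm 4 F) v w = 0) → c (c v) + v = τ' • c v) ∧
      (∀ v ∈ W, ∀ a : F, c v = a • v → v = 0) ∧
      (∀ v, (∀ w ∈ W, polar (plusForm 4 F) v w = 0) → ∀ a : F, c v = a • v → v = 0) := by
  obtain ⟨x, hx⟩ := hF i
  obtain ⟨y, hy⟩ := hF j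
  have hone : ∀ k, e k * e (-k) = 1 := fun k => by rw [← he.add, add_neg_cancel, he.zero]
  have hne : ∀ k : ZMod l, 2 * k ≠ 0 → e k ≠ e (-k) := by
    intro k hk h
    apply hk
    have := he.inj h
    linear_combination this
  have r1 : finrank F (LinearMap.ker (qf c x)) = 6 := by
    rw [(exN_rank (K := K) (qf c x)).1, exN_qf, hx, ker_qf (hone i) (hne i hi)]
    change dd (exN K c) e i + dd (exN K c) e (-i) = 6
    rw [hneg, h3]
  have r2 : finrank F (LinearMap.ker (qf c y)) = 2 := by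
    rw [(exN_rank (K := K) (qf c y)).1, exN_qf, hy, ker_qf (hone j) (hne j hj)]
    change dd (exN K c) e j + dd (exN K c) e (-j) = 2
    rw [hneg, h1]
  have hxy : x ≠ y := by
    intro h
    have e1 : e i + e (-i) = e j + e (-j) := by rw [← hx, ← hy, h]
    have e2 : (e i - e j) * (e i * e j - 1) = 0 := by
      have h4 := hone i
      have h5 := hone j
      linear_combination (e i * e j) * e1 - e j * h4 + e i * h5
    rcases mul_eq_zero.1 e2 with h6 | h6
    · exact hij (he.inj (sub_eq_zero.1 h6))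
    · apply hij'
      apply he.inj
      rw [he.add, sub_eq_zero.1 h6, he.zero]
  have mem : ∀ (t : F) (v : V8 F), v ∈ LinearMap.ker (qf c t) ↔ c (c v) + v = t • c v := by
    intro t v
    rw [LinearMap.mem_ker, qf_apply, ← sub_eq_zero (b := t • c v)]
    constructor
    · intro h
      rw [← h]; abel
    · intro h
      rw [← h]; abel
  have hpol : ∀ v w : V8 F, polar (plusForm 4 F) (c v) (c w) = polar (plusForm 4 F) v w := by
    intro v w
    simp only [QuadraticMap.polar]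
    rw [← map_add, hiso, hiso, hiso]
  have orth : ∀ v ∈ LinearMap.ker (qf c x), ∀ w ∈ LinearMap.ker (qf c y), polar (plusForm 4 F) v w = 0 := by
    intro v hv w hw
    rw [mem] at hv hw
    have e1 : polar (plusForm 4 F) (c (c v) + v) (c w) = x * polar (plusForm 4 F) v w := by
      rw [hv, polar_smul_left, hpol, smul_eq_mul]
    have e2 : polar (plusForm 4 F) (c v) (c (c w) + w) = y * polar (plusForm 4 F) v w := by
      rw [hw, polar_smul_right, hpol, smul_eq_mul]
    rw [polar_add_left, hpol] at e1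
    rw [polar_add_right, hpol] at e2
    have e3 : (x - y) * polar (plusForm 4 F) v w = 0 := by
      linear_combination e2 - e1
    exact (mul_eq_zero.1 e3).resolve_left (sub_ne_zero.2 hxy)
  have hinf : LinearMap.ker (qf c x) ⊓ LinearMap.ker (qf c y) = ⊥ := by
    rw [eq_bot_iff]
    intro v hv
    have e1 := (mem x v).1 hv.1
    have e2 := (mem y v).1 hv.2
    rw [e1, ← sub_eq_zero, ← sub_smul] at e2
    exact (Submodule.mem_bot F).2 (hinj v ((smul_eq_zero.1 e2).resolve_left (sub_ne_zero.2 hxy)))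
  have hsup : LinearMap.ker (qf c x) ⊔ LinearMap.ker (qf c y) = ⊤ := by
    apply Submodule.eq_top_of_finrank_eq
    have h4 := Submodule.finrank_sup_add_finrank_inf_eq (LinearMap.ker (qf c x)) (LinearMap.ker (qf c y))
    rw [hinf, finrank_bot, r1, r2] at h4
    rw [finrank8]
    exact h4
  have hdec : ∀ v : V8 F, ∃ w ∈ LinearMap.ker (qf c x), ∃ w' ∈ LinearMap.ker (qf c y), w + w' = v := by
    intro v
    apply Submodule.mem_sup.1
    rw [hsup]
    exact Submodule.mem_top
  have hnd : ∀ v ∈ LinearMap.ker (qf c x), (∀ w ∈ LinearMap.ker (qf c x), polar (plusForm 4 F) v w = 0) → v = 0 := by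
    intro v hv hvw
    apply Cfsg.Agent.ClassicalGeometry.Triality.nondeg8
    intro z
    obtain ⟨w, hw, w', hw', rfl⟩ := hdec z
    rw [polar_add_right, hvw w hw, orth v hv w' hw', add_zero]
  refine ⟨LinearMap.ker (qf c x), x, y, r1, hnd, hxy, fun v hv => (mem x v).1 hv, fun v hv => ?_,
    fun v _ => hno v, fun v _ => hno v⟩
  obtain ⟨w, hw, w', hw', rfl⟩ := hdec v
  have h4 : w = 0 := by
    apply hnd w hw
    intro z hz
    have h5 := hv z hz
    rw [polar_add_left, polar_comm (plusForm 4 F) w' z, orth z hz w' hw', add_zero] at h5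
    exact h5
  rw [h4, zero_add]
  exact (mem y w').1 hw'

/-- (MIX-M), part (d): `c ∈ AutD (fG s)` of prime order `l ∣ q₀² ± q₀ + 1`, `l ≠ 3`, commuting with an element
`u ≠ 1` of `AutD (fG s)` of order `p` -/
theorem det_mult {F : Type u} [Field F] [Finite F] {s : F ≃+* F} (h3 : ∀ a, s (s (s a)) = a)
    (hne : s ≠ RingEquiv.refl F) {q0 : ℕ}
    (hq : Nat.card F = q0 ^ 3) {c u : V8 F ≃ₗ[F] V8 F} (hc : c ∈ AutD (fG s)) (hu : u ∈ AutD (fG s)) {l : ℕ}
    (hl : l.Prime) (hl3 : l ≠ 3) (h1 : l ∣ q0 ^ 2 + q0 + 1 ∨ l ∣ q0 ^ 2 - q0 + 1) (hcl : c ^ l = 1) (hc1 : c ≠ 1)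
    {p : ℕ} [CharP F p] (hp : p.Prime) (hup : u ^ p = 1) (hu1 : u ≠ 1) (huc : u * c = c * u) :
    (finrank F (LinearMap.range ((u : V8 F →ₗ[F] V8 F) - LinearMap.id)) = 2 ∧
      ∀ v, plusForm 4 F (u v - v) = 0) ∨
    (∃ a b : F, a ≠ 0 ∧ b ≠ 0 ∧ a * a ≠ 1 ∧ b * b ≠ 1 ∧ a ≠ b ∧ a * b ≠ 1 ∧
      finrank F (Module.End.eigenspace (c : V8 F →ₗ[F] V8 F) a) = 3 ∧
      finrank F (Module.End.eigenspace (c : V8 F →ₗ[F] V8 F) a⁻¹) = 3 ∧
      finrank F (Module.End.eigenspace (c : V8 F →ₗ[F] V8 F) b) = 1 ∧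
      finrank F (Module.End.eigenspace (c : V8 F →ₗ[F] V8 F) b⁻¹) = 1) ∨
    (∃ (W : Submodule F (V8 F)) (τ τ' : F), finrank F W = 6 ∧
      (∀ v ∈ W, (∀ w ∈ W, polar (plusForm 4 F) v w = 0) → v = 0) ∧ τ ≠ τ' ∧ (∀ v ∈ W, c (c v) + v = τ • c v) ∧
      (∀ v, (∀ w ∈ W, polar (plusForm 4 F) v w = 0) → c (c v) + v = τ' • c v) ∧
      (∀ v ∈ W, ∀ a : F, c v = a • v → v = 0) ∧
      (∀ v, (∀ w ∈ W, polar (plusForm 4 F) v w = 0) → ∀ a : F, c v = a • v → v = 0)) := by
  obtain ⟨q1, hq1, hq1', hpp, -, hs⟩ := BQ h3 hne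
  have hqq : q1 = q0 := by
    have : q1 ^ 3 = q0 ^ 3 := by rw [← hq1', hq]
    exact Nat.pow_left_injective (by norm_num : 3 ≠ 0) this
  subst hqq
  have hle : q1 ≤ q1 ^ 2 := Nat.le_self_pow two_ne_zero q1
  have hlq : ¬ l ∣ q1 := by
    intro h
    have h2 : l ∣ 1 := by
      rcases h1 with h1 | h1
      · exact (Nat.dvd_add_right (dvd_add (h.trans (dvd_pow_self q1 two_ne_zero)) h)).1 h1
      · exact (Nat.dvd_add_right (Nat.dvd_sub (h.trans (dvd_pow_self q1 two_ne_zero)) h)).1 h1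
    exact hl.one_lt.ne' (Nat.dvd_one.1 h2)
  have : Fact l.Prime := ⟨hl⟩
  have : Fact p.Prime := ⟨hp⟩
  have hlF' : (l : F) ≠ 0 := lF_ne hq hl hlq
  obtain ⟨φ, k, hφ, hk, hka⟩ := exists_phi' hpp hq hs hl hlq h1
  have hlF : (l : AlgebraicClosure F) ≠ 0 := by
    intro h0
    apply hlF'
    apply (algebraMap F (AlgebraicClosure F)).injective
    rw [map_natCast, map_zero, h0]
  obtain ⟨e, he⟩ := exists_wt hlF hk
  have hN := exists_bc h3 hφ hc hcl
  have hU := exists_bc h3 hφ hu hup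
  have hxN : ∀ {d : V8 F ≃ₗ[F] V8 F}, d ≠ 1 → exN (AlgebraicClosure F) (d : V8 F →ₗ[F] V8 F) ≠ 1 := by
    intro d hd h
    apply hd
    apply LinearEquiv.ext
    intro x
    apply io_inj (K := AlgebraicClosure F)
    have h10 := exN_io (K := AlgebraicClosure F) (d : V8 F →ₗ[F] V8 F) x
    rw [h] at h10
    exact h10.symm
  have hUN : exN (AlgebraicClosure F) (u : V8 F →ₗ[F] V8 F) * exN (AlgebraicClosure F) (c : V8 F →ₗ[F] V8 F) =
      exN (AlgebraicClosure F) (c : V8 F →ₗ[F] V8 F) * exN (AlgebraicClosure F) (u : V8 F →ₗ[F] V8 F) := by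
    refine ext_io (F := F) fun x => ?_
    rw [Module.End.mul_apply, Module.End.mul_apply, exN_io, exN_io, exN_io, exN_io]
    congr 1
    exact congrArg (fun z : V8 F ≃ₗ[F] V8 F => z x) huc
  have hUp : (exN (AlgebraicClosure F) (u : V8 F →ₗ[F] V8 F) - 1) ^ p = 0 := by
    have : CharP (AlgebraicClosure F) p := charP_of_injective_algebraMap (algebraMap F (AlgebraicClosure F)).injective p
    have : CharP (Module.End (AlgebraicClosure F) (V8 (AlgebraicClosure F))) p :=
      charP_of_injective_algebraMap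
        (algebraMap (AlgebraicClosure F) (Module.End (AlgebraicClosure F) (V8 (AlgebraicClosure F)))).injective p
    have h5 : Commute (exN (AlgebraicClosure F) (u : V8 F →ₗ[F] V8 F))
      (1 : Module.End (AlgebraicClosure F) (V8 (AlgebraicClosure F))) := Commute.one_right _
    have h6 := sub_pow_char_of_commute (p := p) h5
    rw [hU.pow, one_pow, sub_self] at h6
    exact h6
  obtain ⟨h0, hcase⟩ := det_K (tk_dia φ)
    (Cfsg.Agent.ClassicalGeometry.Triality.nondeg8 (F := AlgebraicClosure F)) (finrank8 (AlgebraicClosure F)) he hN hka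
    hl3 hlF (hxN hc1) hU.mul hU.iso hUN hUp (hxN hu1)
  have hneg := he.dd_neg hlF hN (Cfsg.Agent.ClassicalGeometry.Triality.nondeg8 (F := AlgebraicClosure F))
  rcases hcase with ⟨hr, hQ⟩ | ⟨i, hi0, hi3, hi1⟩
  · left
    have hU' : exN (AlgebraicClosure F) (u : V8 F →ₗ[F] V8 F) - 1 =
        exN (AlgebraicClosure F) ((u : V8 F →ₗ[F] V8 F) - LinearMap.id) := by
      have h5 := exN_eig (K := AlgebraicClosure F) (u : V8 F →ₗ[F] V8 F) 1
      rw [map_one, one_smul, one_smul] at h5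
      exact h5.symm
    refine ⟨?_, fun v => ?_⟩
    · rw [(exN_rank (K := AlgebraicClosure F) _).2, ← hU', hr]
    · have h5 := hQ (io (AlgebraicClosure F) v)
      have h6 : exN (AlgebraicClosure F) (u : V8 F →ₗ[F] V8 F) (io (AlgebraicClosure F) v) -
          io (AlgebraicClosure F) v = io (AlgebraicClosure F) (u v - v) := by
        have h7 : io (AlgebraicClosure F) (u v) =
            io (AlgebraicClosure F) (u v - v) + io (AlgebraicClosure F) v := by
          rw [← io_add, sub_add_cancel]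
        rw [exN_io, sub_eq_iff_eq_add]
        exact h7
      rw [h6, io_norm] at h5
      exact (map_eq_zero _).1 h5
  · right
    have h2' := two_ne hka
    have h3' := three_ne hl3
    have hci : (2 * (k : ZMod l) + 1) * (2 * (k : ZMod l) + 1) = -3 := by linear_combination 4 * hka
    have hk0 : (k : ZMod l) ≠ 0 := by
      intro h0
      rw [h0] at hka
      exact one_ne_zero (by linear_combination hka)
    have hk1 : (k : ZMod l) + 1 ≠ 0 := by
      intro h0
      exact one_ne_zero (α := ZMod l) (by linear_combination hka - (k : ZMod l) * h0)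
    have hc0 : 2 * (k : ZMod l) + 1 ≠ 0 := by
      intro h0
      rw [h0] at hci
      exact h3' (by linear_combination hci)
    have e1 : 2 * i ≠ 0 := mul_ne_zero h2' hi0
    have e2 : 2 * ((2 * (k : ZMod l) + 1) * i) ≠ 0 := mul_ne_zero h2' (mul_ne_zero hc0 hi0)
    have e3 : i ≠ (2 * (k : ZMod l) + 1) * i := by
      intro h
      exact mul_ne_zero (mul_ne_zero h2' hk0) hi0 (by linear_combination -h)
    have e4 : i + (2 * (k : ZMod l) + 1) * i ≠ 0 := by
      intro h
      exact mul_ne_zero (mul_ne_zero h2' hk1) hi0 (by linear_combination h)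
    rcases h1 with h1 | h1
    · left
      refine fin_plus he (fun j => mem_range_of_pow ?_) hneg e1 e2 e3 e4 hi3 hi1
      obtain ⟨t, ht⟩ := h1
      obtain ⟨r, hr⟩ : ∃ r, q1 = r + 1 := ⟨q1 - 1, by omega⟩
      have h5 : Nat.card F = l * (t * r) + 1 := by
        rw [hq, ← mul_assoc, ← ht, hr]
        ring
      rw [h5, pow_succ, pow_mul, e_pow_l he, one_pow, one_mul]
    · right
      have hl2 : l ≠ 2 := by
        rintro rfl
        exact h2' rfl
      have h5 : l ∣ Nat.card F + 1 := by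
        obtain ⟨t, ht⟩ := h1
        refine ⟨t * (q1 + 1), ?_⟩
        rw [hq, ← mul_assoc, ← ht]
        zify [hle]
        ring
      obtain ⟨t, ht⟩ := h5
      have h6 : ∀ j, e j ^ Nat.card F = e (-j) := by
        intro j
        have h7 : e j ^ (Nat.card F + 1) = 1 := by rw [ht, pow_mul, e_pow_l he, one_pow]
        rw [pow_succ] at h7
        rw [e_neg he]
        exact eq_inv_of_mul_eq_one_left h7
      obtain ⟨f, hf⟩ := exists_frq F
      refine fin_minus he (fun j => mem_range_of_pow ?_) hneg e1 e2 e3 e4 hi3 hi1 (AutD_norm hc)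
        (fun x hx => ?_) (fun v a hv => ?_)
      · rw [← hf, map_add, hf, hf, h6, h6, neg_neg, add_comm]
      · exact (LinearEquiv.map_eq_zero_iff c).1 hx
      · by_contra hv0
        have hcv : ∀ n : ℕ, (c ^ n) v = a ^ n • v := by
          intro n
          induction n with
          | zero => rw [pow_zero, pow_zero, one_smul]; rfl
          | succ n ih =>
            have h8 : (c ^ (n + 1)) v = (c ^ n) (c v) := by rw [pow_succ]; rfl
            have hv' : c v = a • v := hv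
            rw [h8, hv', map_smul, ih, smul_smul, pow_succ']
        have h8 : a ^ l = 1 := by
          have h9 := hcv l
          rw [hcl] at h9
          have h10 : (a ^ l - 1) • v = 0 := by
            rw [sub_smul, ← h9, one_smul]
            exact sub_self v
          exact sub_eq_zero.1 ((smul_eq_zero.1 h10).resolve_right hv0)
        have h9 : a ^ Nat.card F = a := by
          have := Fintype.ofFinite F
          rw [Nat.card_eq_fintype_card]
          exact FiniteField.pow_card _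
        have h10 : a * a = 1 := by
          have h11 : a ^ (Nat.card F + 1) = 1 := by rw [ht, pow_mul, h8, one_pow]
          rwa [pow_succ, h9] at h11
        have h11 : a = 1 := by
          obtain ⟨r, hr⟩ := (hl.eq_two_or_odd'.resolve_left hl2)
          rw [hr, pow_succ, pow_mul, pow_two, h10, one_pow, one_mul] at h8
          exact h8
        have h12 : io (AlgebraicClosure F) v ∈ Ei (exN (AlgebraicClosure F) (c : V8 F →ₗ[F] V8 F)) (e 0) := by
          rw [mem_Ei, exN_io, he.zero, one_smul, hv, h11, one_smul]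
        have h13 := zero_of h0 h12
        apply hv0
        apply io_inj (K := AlgebraicClosure F)
        have h14 : io (AlgebraicClosure F) (0 : V8 F) = 0 := funext fun _ => map_zero _
        rw [h13, h14]

end fin

end desc

end Cfsg.Agent.H531.RC
end

-- part: H338/RC/DeadSU
section
/-!
# S3510, triality type iii, MIXED (c) (helper338)

`dead_su3` : a member `g i` of odd order with `V = W ⊥ W^⊥`, `g i + (g i)⁻¹ = τ` on the 6-dimensional `W`, `= τ' ≠ τ` on
`W^⊥`, without eigenvalues in `F`: contradiction.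
-/

set_option autoImplicit false
open Cfsg

namespace Cfsg.Agent.H338.RC

open Module QuadraticMap MulAction
open Cfsg.Agent.LieClassical.OrthCore Cfsg.Agent.LieClassical.OrthTrans
open Cfsg.Agent.LieClassical.OrthSimple Cfsg.Agent.LieClassical.QuadForms
open Cfsg.Agent.ClassicalGeometry.Triality Cfsg.Agent.H106.RC Cfsg.Agent.H93.RC Cfsg.Agent.H566.RC
open Cfsg.Agent.H198.TriAut Cfsg.Agent.H864.RC
open scoped commutatorElement

variable {F : Type} [Field F] {G Ω ι : Type} [Group G] [MulAction G Ω] {N : Subgroup G}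
    {hG : Good (plusForm 4 F)} {κ : P8 F →* G} {s : F ≃+* F} {x₁ : G} {x : ι → G} {r : ι → ℕ}
    {g : ι → (V8 F ≃ₗ[F] V8 F)}

theorem card_ne_two [Finite F] (h : T3 hG N κ s Ω x₁ x r g) : Nat.card F ≠ 2 := by
  classical
  intro h2
  have hf := Fintype.ofFinite F
  have h01 : ∀ a : F, a = 0 ∨ a = 1 := by
    intro a
    by_contra hcon
    push Not at hcon
    have h3 : ({0, 1, a} : Finset F).card = 3 := by
      rw [Finset.card_insert_of_notMem, Finset.card_insert_of_notMem, Finset.card_singleton]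
      · simpa using hcon.2.symm
      · simp only [Finset.mem_insert, Finset.mem_singleton, not_or]
        exact ⟨zero_ne_one, hcon.1.symm⟩
    have h4 := Finset.card_le_univ ({0, 1, a} : Finset F)
    rw [h3, ← Nat.card_eq_fintype_card, h2] at h4
    omega
  apply h.ne
  ext a
  rcases h01 a with rfl | rfl
  · rw [map_zero, map_zero]
  · rw [map_one, map_one]

theorem dead_su3 [Finite F] [Finite G] [Finite ι] [Nonempty Ω] (h : T3 hG N κ s Ω x₁ x r g) (hIH : IH (Nat.card N))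
    (hN : NoN Ω N) (i : ι) (hodd : r i ≠ 2) (W : Submodule F (V8 F)) (hW : finrank F W = 6)
    (hWn : ∀ v ∈ W, (∀ w ∈ W, polar (plusForm 4 F) v w = 0) → v = 0) (τ τ' : F) (hne : τ ≠ τ')
    (h1 : ∀ v ∈ W, g i (g i v) + v = τ • g i v)
    (h2 : ∀ v, (∀ w ∈ W, polar (plusForm 4 F) v w = 0) → g i (g i v) + v = τ' • g i v)
    (h3 : ∀ v ∈ W, ∀ a : F, g i v = a • v → v = 0)
    (h4 : ∀ v, (∀ w ∈ W, polar (plusForm 4 F) v w = 0) → ∀ a : F, g i v = a • v → v = 0) : False := by
  have hcw : SUD.CW (plusForm 4 F) (g i) W τ τ' := by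
    refine ⟨E_le_O (h.mem i).1, ?_, hne, h1, h2, h3, h4, ?_⟩
    · intro w hw
      apply Subtype.ext
      exact hWn w w.2 (fun v hv => hw ⟨v, hv⟩)
    · rw [hW, Module.finrank_fintype_fun_eq_card, Fintype.card_sum, Fintype.card_fin]
  obtain ⟨K, _, _, φ, -, hφ, hcomm, hder, ⟨Y, hY0, hY⟩, hperf, hS, hSn, hCl, hEx, hs3⟩ :=
    SUD.su3_data hG hcw hW (card_ne_two h)
  refine m_end h hIH hN hperf hS hSn hCl hEx φ hφ i hodd (fun s => LinearEquiv.ext (hcomm s)) ?_
    ⟨Y, hY0, hY⟩ hs3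
  intro a b ha hb
  exact hder a b (fun v => congrArg (fun f : V8 F ≃ₗ[F] V8 F => f v) ha)
    (fun v => congrArg (fun f : V8 F ≃ₗ[F] V8 F => f v) hb)

end Cfsg.Agent.H338.RC
end

-- part: H721/RC/Mixed
section
/-!
# S3510, triality of type iii: the mixed case (text of helper195, with the landed boxes)
-/

set_option autoImplicit false
open Cfsg

namespace Cfsg.Agent.H721.RC.Mix

open Module QuadraticMap MulAction
open Cfsg.Agent.LieClassical.OrthCore Cfsg.Agent.LieClassical.OrthTrans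
open Cfsg.Agent.LieClassical.OrthSimple Cfsg.Agent.ClassicalGeometry.OrthSemi
open Cfsg.Agent.ClassicalGeometry.OrthAut1 Cfsg.Agent.H106.RC Cfsg.Agent.H93.RC Cfsg.Agent.H566.RC
open Cfsg.Agent.LieClassical.QuadForms Cfsg.Agent.ClassicalGeometry.TrialityOct
open Cfsg.Agent.ClassicalGeometry.Triality Cfsg.Agent.ClassicalGeometry.TrialitySpaces
open Cfsg.Agent.H198.TriBase Cfsg.Agent.H198.TriAut Cfsg.Agent.H198.TriDia
open Cfsg.Agent.H206.Balance hiding Good
open Cfsg.Agent.H198.TwComp Cfsg.Agent.H198 Cfsg.Agent.H864.RC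
open Cfsg.Agent.H195.RC Cfsg.Agent.H195.RC.Mix Cfsg.Agent.H531.RC Cfsg.Agent.H188.RC.Inv Cfsg.Agent.H338.RC

variable {F : Type} [Field F]

section env
variable {G Ω ι : Type} [Group G] [MulAction G Ω] {N : Subgroup G} {hG : Good (plusForm 4 F)}
  {κ : P8 F →* G} {s : F ≃+* F} {x₁ : G} {x : ι → G} {r : ι → ℕ} {g : ι → (V8 F ≃ₗ[F] V8 F)}

/-- `mix_lin` for the whole family -/
theorem lin1 [Finite F] [Finite ι] {p : ℕ} [CharP F p] (h : T3 hG N κ s Ω x₁ x r g) (i₀ j₀ : ι)
    (hi : r i₀ = p) (hj : r j₀ ≠ p) (h2 : ∀ i, r i ≠ p → r i ≠ 2) : Lin1 g := by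
  have hp : p.Prime := by rw [← hi]; exact h.prime i₀
  have key := mix_lin (ι := {i // r i ≠ p}) hp hG (g := fun i => g i.1) (fun i => (h.mem i.1).1)
    (r := fun i => r i.1) (fun i => h.prime i.1) (fun i => i.2) (fun i => h2 i.1 i.2) (fun i => h.pow i.1)
    (fun i j => h.comm i.1 j.1) ⟨j₀, hj⟩ (h.ne1 j₀) (u := g i₀) (h.mem i₀).1 (by rw [← hi]; exact h.pow i₀)
    (h.ne1 i₀) (fun i => h.comm i₀ i.1)
  have hall : ∀ c : V8 F ≃ₗ[F] V8 F, (∀ i : {i // r i ≠ p}, c * g i.1 = g i.1 * c) → c * g i₀ = g i₀ * c →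
      ∀ i, c * g i = g i * c := by
    intro c h4 h5 i
    by_cases h6 : r i = p
    · rw [h.inj (h6.trans hi.symm)]; exact h5
    · exact h4 ⟨i, h6⟩
  rcases key with ⟨n0, hn0, hL⟩ | hL
  · refine Or.inl ⟨n0, hn0, fun n hn hodd => ?_⟩
    obtain ⟨c, hc, τ, W, hW0, hord, hcg, hcu, hrest⟩ := hL n hn hodd
    exact ⟨c, hc, τ, W, hW0, hord, hall c hcg hcu, hrest⟩
  · refine Or.inr fun l hl hl2 hd => ?_
    obtain ⟨c, hc, hcl, hc1, hcg, hcu⟩ := hL l hl hl2 hd
    exact ⟨c, hc, hcl, hc1, hall c hcg hcu⟩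

theorem exists_q0 [Finite F] (h : T3 hG N κ s Ω x₁ x r g) : ∃ q0, Nat.card F = q0 ^ 3 := by
  obtain ⟨p, k, n, -, -, -, hq, -, -⟩ := Cfsg.Agent.H393.TZ.numbers h.cube h.ne
  exact ⟨_, hq⟩

/-- a member of the family has order dividing `q0² + q0 + 1` or `q0² - q0 + 1`; hence the alternatives of `det_mult` -/
theorem alternatives [Finite F] [Finite G] [Finite ι] {p : ℕ} [CharP F p] (h : T3 hG N κ s Ω x₁ x r g)
    (hN : NoN Ω N) (i₀ j₀ : ι) (hi : r i₀ = p) (hj : r j₀ ≠ p) (h2 : ∀ i, r i ≠ p → r i ≠ 2) :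
    (finrank F (LinearMap.range ((g i₀ : V8 F →ₗ[F] V8 F) - LinearMap.id)) = 2 ∧
      ∀ v, plusForm 4 F (g i₀ v - v) = 0) ∨
    ∃ i, r i ≠ 2 ∧ (
    (∃ a b : F, a ≠ 0 ∧ b ≠ 0 ∧ a * a ≠ 1 ∧ b * b ≠ 1 ∧ a ≠ b ∧ a * b ≠ 1 ∧ finrank F (Eg (g i) a) = 3 ∧
      finrank F (Eg (g i) a⁻¹) = 3 ∧ finrank F (Eg (g i) b) = 1 ∧ finrank F (Eg (g i) b⁻¹) = 1) ∨
    (∃ (W : Submodule F (V8 F)) (τ τ' : F), finrank F W = 6 ∧
      (∀ v ∈ W, (∀ w ∈ W, polar (plusForm 4 F) v w = 0) → v = 0) ∧ τ ≠ τ' ∧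
      (∀ v ∈ W, g i (g i v) + v = τ • g i v) ∧
      (∀ v, (∀ w ∈ W, polar (plusForm 4 F) v w = 0) → g i (g i v) + v = τ' • g i v) ∧
      (∀ v ∈ W, ∀ a : F, g i v = a • v → v = 0) ∧
      (∀ v, (∀ w ∈ W, polar (plusForm 4 F) v w = 0) → ∀ a : F, g i v = a • v → v = 0))) := by
  have hp : p.Prime := by rw [← hi]; exact h.prime i₀
  obtain ⟨q0, hq⟩ := exists_q0 h
  have hq2 : 2 ≤ q0 := by
    have hcard : 1 < Nat.card F := Finite.one_lt_card
    by_contra hcon
    have : q0 = 0 ∨ q0 = 1 := by omega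
    rcases this with h0 | h0 <;> rw [hq, h0] at hcard <;> norm_num at hcard
  obtain ⟨i, hd⟩ := frame h hN hq (lin1 h i₀ j₀ hi hj h2)
  have hi2 : r i ≠ 2 := by
    obtain ⟨m, hm⟩ := Nat.exists_eq_add_of_le' (show 1 ≤ q0 by omega)
    rw [hm] at hd
    rcases hd with hd | hd
    · exact MixArith.ne_two_of_odd (MixArith.odd_plus m) hd
    · exact MixArith.ne_two_of_odd (MixArith.odd_minus m) hd
  rcases det_mult h.cube h.ne hq (h.mem i) (h.mem i₀) (h.prime i) (h.three i) hd (h.pow i) (h.ne1 i) hp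
    (by rw [← hi]; exact h.pow i₀) (h.ne1 i₀) (h.comm i₀ i) with h3 | h3
  · exact Or.inl h3
  · exact Or.inr ⟨i, hi2, h3⟩

/-- **MIXED** -/
theorem dead_mixed [Finite F] [Finite G] [Finite ι] [Nonempty Ω] {p : ℕ} [CharP F p]
    (h : T3 hG N κ s Ω x₁ x r g) (hIH : IH (Nat.card N)) (hN : NoN Ω N) (i₀ j₀ : ι) (hi : r i₀ = p)
    (hj : r j₀ ≠ p) : False := by
  have hp : p.Prime := by rw [← hi]; exact h.prime i₀
  by_cases h2 : ∀ i, r i ≠ p → r i ≠ 2
  · rcases alternatives h hN i₀ j₀ hi hj h2 with ⟨h3, h4⟩ | ⟨i, hi2, h3 | h3⟩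
    · exact dead_long h i₀ hi h3 h4
    · obtain ⟨a, b, ha, hb, haa, hbb, hab, hab1, k1, k2, k3, k4⟩ := h3
      exact dead_sl3 h hIH hN i hi2 ha hb haa hbb hab hab1 k1 k2 k3 k4
    · obtain ⟨W, τ, τ', hW, hWn, hτ, k1, k2, k3, k4⟩ := h3
      exact dead_su3 h hIH hN i hi2 W hW hWn τ τ' hτ k1 k2 k3 k4
  · push Not at h2
    obtain ⟨i, h3, h4⟩ := h2
    refine dead_inv h hIH hN ?_ i h4
    intro h5
    apply h3
    rw [h4]
    have h6 : ((2 : ℕ) : F) = 0 := by exact_mod_cast h5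
    rw [CharP.cast_eq_zero_iff F p] at h6
    exact ((Nat.prime_dvd_prime_iff_eq hp Nat.prime_two).1 h6).symm

end env

end Cfsg.Agent.H721.RC.Mix
end

private theorem dce_ace9aebccaa5 : _root_.True := by
  try have : _root_.True := by simp only [_root_.Cfsg.Agent.H579.RC.Mix.rt.eq_1]
  try have : _root_.True := by simp only [_root_.Cfsg.Agent.H579.RC.Mix.Dat.ac.congr_simp]
  try have : _root_.True := by simp only [_root_.Cfsg.Agent.H256.RC.Ei.eq_1]
  exact _root_.True.intro
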